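/-
Modules of the Suzuki groups on which the elements of odd order act without fixed points: identities.

* `OddFPF`, `Fixed`
* `smul_t`, `smul_d`, `smul_w` : the natural module
* `wvw`   : `w v w` in the big cell, with the torus part
* `rel`   : a fixed vector is the sum of four translates of its image under `w`
* `exists_inverted` : involutions of the centre of `U` invert elements of odd order
-/
import Cfsg.Agent.EqLemmas
import Cfsg.Agent.Lib.Suzuki.LieModel

set_option autoImplicit false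
set_option linter.unusedSectionVars false

open Cfsg
open scoped Matrix

namespace Cfsg.Agent.SzModule

open Suzuki

variable {F : Type*} [Field F] [Fintype F] {m : ℕ} (hm : 1 ≤ m) (hF : Fintype.card F = 2 ^ (2 * m + 1))

/-- Elements of odd order act without fixed points. -/
def OddFPF (F : Type*) [Field F] (m : ℕ) (V : Type*) [AddCommGroup V] [DistribMulAction (Cfsg.Sz F m) V] :
    Prop :=
  ∀ g : Cfsg.Sz F m, g ≠ 1 → Odd (orderOf g) → ∀ v : V, g • v = v → v = 0

/-- A vector fixed by the unipotent group. -/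
def Fixed {V : Type*} [AddCommGroup V] [DistribMulAction (Cfsg.Sz F m) V] (x : V) : Prop :=
  ∀ a b : F, tSz hF a b • x = x

theorem smul_t (a b : F) (v : Fin 4 → F) : tSz hF a b • v =
    ![v 0 + a * v 1 + (b + th m a * a) * v 2 + fz m a b * v 3, v 1 + th m a * v 2 + b * v 3,
      v 2 + a * v 3, v 3] := by
  show tMat m a b *ᵥ v = _
  funext i
  fin_cases i <;> simp [tMat, Matrix.mulVec, dotProduct, Fin.sum_univ_four]

theorem smul_w (v : Fin 4 → F) : wSz hF • v = ![v 3, v 2, v 1, v 0] := by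
  show suzukiForm F *ᵥ v = _
  funext i
  fin_cases i <;> simp [suzukiForm, Matrix.mulVec, dotProduct, Fin.sum_univ_four]

theorem smul_d (k : Fˣ) (v : Fin 4 → F) : dSz hF k • v = fun i => dVec m k i * v i := by
  show Matrix.diagonal (dVec m k) *ᵥ v = _
  funext i
  rw [Matrix.mulVec_diagonal]

/-- The exponent `2^m + 1`. -/
def aExp (m : ℕ) : ℕ := 2 ^ m + 1

include hF in
theorem aExp_sq (x : F) : (x ^ aExp m) ^ 2 = th m x * x ^ 2 := by
  rw [aExp, th, ← pow_mul, ← pow_add]
  congr 1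
  ring

include hF in
theorem aExp_eq_one {x : F} (h : x ^ aExp m = 1) : x = 1 := by
  have h1 : th m x * x ^ 2 = 1 := by rw [← aExp_sq hF, h, one_pow]
  have h2 : th m (th m x * x ^ 2) = 1 := by rw [h1, th_one]
  rw [th_mul, th_th hF, th_pow] at h2
  have h3 : (th m x * x) ^ 2 = 1 := by rw [mul_pow, mul_comm]; exact h2
  haveI := charTwo hF
  refine thSucc_eq_one hF (sub_eq_zero.1 (mul_self_eq_zero.1 ?_))
  linear_combination h3 + (1 - th m x * x) * (CharTwo.two_eq_zero (R := F))

include hF in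
theorem aExp_bijective : Function.Bijective fun k : Fˣ => k ^ aExp m := by
  refine Finite.injective_iff_bijective.1 fun k l h => ?_
  have h' : ((k * l⁻¹ : Fˣ) : F) ^ aExp m = 1 := by
    rw [← Units.val_pow_eq_pow_val, mul_pow, inv_pow, show k ^ aExp m = l ^ aExp m from h, mul_inv_cancel,
      Units.val_one]
  exact mul_inv_eq_one.1 (Units.ext (aExp_eq_one hF h'))

theorem dVec_zero (k : Fˣ) : dVec m k 0 = (k : F) ^ aExp m := by simp [dVec, aExp, pow_succ]

theorem dVec_three (k : Fˣ) : dVec m k 3 = ((k : F) ^ aExp m)⁻¹ := by simp [dVec, aExp, pow_succ]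

include hm in
/-- The big cell. -/
theorem wvw {a b : F} (h : ¬ (a = 0 ∧ b = 0)) : ∃ (c e : F) (k : Fˣ),
    wSz hF * tSz hF a b * wSz hF =
        tSz hF (b / fz m a b) (a / fz m a b) * (dSz hF k * (wSz hF * tSz hF c e)) ∧
      (k : F) ^ aExp m * fz m a b = 1 := by
  have hz : fz m a b ≠ 0 := fun h0 => h (fz_eq_zero hF h0)
  set t' := tSz hF (b / fz m a b) (a / fz m a b) with ht'
  set g := t'⁻¹ * (wSz hF * tSz hF a b * wSz hF) with hg
  have hfix : (wSz hF * g) • suzukiPointInfinity F = suzukiPointInfinity F := by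
    rw [hg, mul_smul, mul_smul, mul_smul, mul_smul, wSz_smul_infinity, tSz_smul_zero,
      show wSz hF • pt m a b = pt m (b / fz m a b) (a / fz m a b) from wSL_smul_pt hF a b hz,
      show t'⁻¹ • pt m (b / fz m a b) (a / fz m a b) = suzukiPointZero F by
        rw [inv_smul_eq_iff, ht', tSz_smul_zero],
      wSz_smul_zero]
  obtain ⟨c, e, k, hk⟩ := exists_tSz_dSz_of_fix hm hF hfix
  have hk0 : (k : F) ≠ 0 := k.ne_zero
  have hkk : th m (k : F) * (k : F) ≠ 0 := mul_ne_zero (th_ne_zero hk0) hk0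
  have hgd : g = dSz hF k⁻¹ * (wSz hF * tSz hF (c / k) (e / (th m (k : F) * k))) := by
    have h1 : dSz hF k * tSz hF (c / k) (e / (th m (k : F) * k)) = tSz hF c e * dSz hF k := by
      rw [dSz_conj_tSz hF, mul_div_cancel₀ _ hk0, mul_div_cancel₀ _ hkk]
    rw [← mul_assoc, ← wSz_conj_dSz hF, mul_assoc, h1, ← hk, ← mul_assoc, wSz_mul_self hF, one_mul]
  refine ⟨c / k, e / (th m (k : F) * k), k⁻¹, ?_, ?_⟩
  · rw [← hgd, hg, mul_inv_cancel_left]
  · have heq : wSz hF * tSz hF a b * wSz hF =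
        t' * (dSz hF k⁻¹ * (wSz hF * tSz hF (c / k) (e / (th m (k : F) * k)))) := by
      rw [← hgd, hg, mul_inv_cancel_left]
    have h2 := congrArg (fun x : Cfsg.Sz F m => (x • (![1, 0, 0, 0] : Fin 4 → F)) 3) heq
    simp only [mul_smul, ht', smul_t, smul_w, smul_d] at h2
    simp [dVec_three] at h2
    rw [h2, ← mul_pow, Units.val_inv_eq_inv_val, inv_mul_cancel₀ hk0, one_pow]

/-- The element of order five. -/
def yFive : Cfsg.Sz F m := tSz hF 0 1 * wSz hF

theorem yFive_pow : yFive hF ^ 5 = 1 := by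
  haveI := charTwo hF
  refine Subtype.ext (Subtype.ext ?_)
  show (tMat m (0 : F) 1 * suzukiForm F) ^ 5 = 1
  have h1 : tMat m (0 : F) 1 * suzukiForm F = !![1, 1, 0, 1; 1, 0, 1, 0; 0, 1, 0, 0; 1, 0, 0, 0] := by
    ext i j
    fin_cases i <;> fin_cases j <;> simp [tMat, suzukiForm, fz, Matrix.mul_apply, Fin.sum_univ_four]
  rw [h1, show (5 : ℕ) = 2 + 2 + 1 from rfl, pow_add, pow_add, pow_two, pow_one]
  ext i j
  fin_cases i <;> fin_cases j <;>
    simp [Matrix.mul_apply, Fin.sum_univ_four] <;> grind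

theorem yFive_ne_one : yFive hF ≠ 1 := by
  intro h
  have h' := congrArg (fun x : Cfsg.Sz F m => x • suzukiPointInfinity F) h
  simp only [yFive, mul_smul, wSz_smul_infinity, tSz_smul_zero, one_smul] at h'
  exact pt_ne_infinity _ _ h'

theorem yFive_odd : Odd (orderOf (yFive hF)) :=
  (by decide : Odd 5).of_dvd_nat (orderOf_dvd_of_pow_eq_one (yFive_pow hF))

section Module

variable {V : Type*} [AddCommGroup V] [DistribMulAction (Cfsg.Sz F m) V]

include hm in
theorem wvw_fixed {x : V} (hx : Fixed hF x) {a b : F} (h : ¬ (a = 0 ∧ b = 0)) :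
    ∃ k : Fˣ, wSz hF • tSz hF a b • wSz hF • x =
        tSz hF (b / fz m a b) (a / fz m a b) • dSz hF k • wSz hF • x ∧
      (k : F) ^ aExp m * fz m a b = 1 := by
  obtain ⟨c, e, k, hk, hk'⟩ := wvw hm hF h
  refine ⟨k, ?_, hk'⟩
  rw [← mul_smul, ← mul_smul, hk]
  simp only [mul_smul]
  rw [hx c e]

include hm in
theorem wvw_one {x : V} (hx : Fixed hF x) {a b : F} (h : ¬ (a = 0 ∧ b = 0)) (hz : fz m a b = 1) :
    wSz hF • tSz hF a b • wSz hF • x = tSz hF b a • wSz hF • x := by
  obtain ⟨k, hk, hk'⟩ := wvw_fixed hm hF hx h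
  rw [hz, mul_one] at hk'
  have h1 : k = 1 := Units.ext (aExp_eq_one hF hk')
  rw [hk, hz, div_one, div_one, h1, dSz_one, one_smul]

include hm in
/-- The orbit of five points. -/
theorem rel (hfpf : OddFPF F m V) {x : V} (hx : Fixed hF x) :
    x + (wSz hF • x + tSz hF 1 0 • wSz hF • x + tSz hF 0 1 • wSz hF • x + tSz hF 1 1 • wSz hF • x) = 0 := by
  haveI := charTwo hF
  set q := wSz hF • x with hq
  set S := x + (q + tSz hF 1 0 • q + tSz hF 0 1 • q + tSz hF 1 1 • q) with hS
  have hw2 : wSz hF • q = x := by rw [hq, ← mul_smul, wSz_mul_self, one_smul]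
  have hwS : wSz hF • S = S := by
    simp only [hS, smul_add, ← hq, hw2]
    rw [hq, wvw_one hm hF hx (by simp) (by simp [fz]), wvw_one hm hF hx (by simp) (by simp [fz]),
      wvw_one hm hF hx (by simp) (by simp [fz, CharTwo.add_self_eq_zero]), ← hq]
    abel
  have hzS : tSz hF 0 1 • S = S := by
    have hc : ∀ a b : F, tSz hF 0 1 • tSz hF a b • q = tSz hF a (1 + b) • q := fun a b => by
      rw [← mul_smul, tSz_mul, zero_add, th_zero, zero_mul, add_zero]
    simp only [hS, smul_add, hc, hx 0 1]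
    rw [add_zero, CharTwo.add_self_eq_zero, tSz_zero, one_smul]
    abel
  exact hfpf _ (yFive_ne_one hF) (yFive_odd hF) S (by rw [yFive, mul_smul, hwS, hzS])

include hm in
/-- In an elementary module. -/
theorem rel_two (hfpf : OddFPF F m V) (h2 : ∀ v : V, v + v = 0) {x : V} (hx : Fixed hF x) :
    x = wSz hF • x + tSz hF 1 0 • wSz hF • x + tSz hF 0 1 • wSz hF • x + tSz hF 1 1 • wSz hF • x := by
  have h := eq_neg_of_add_eq_zero_left (rel hm hF hfpf hx)
  rwa [← eq_neg_of_add_eq_zero_left (h2 _)] at h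

end Module

theorem tSz_zero_sq (b : F) : tSz hF 0 b * tSz hF 0 b = 1 := by
  haveI := charTwo hF
  rw [tSz_mul, tSz_eq_one_iff]
  simp [CharTwo.add_self_eq_zero]

include hm in
/-- A central involution of the unipotent group inverts an element of odd order. -/
theorem exists_inverted {b : F} (hb : b ≠ 0) : ∃ y : Cfsg.Sz F m, y ≠ 1 ∧ Odd (orderOf y) ∧
    tSz hF 0 b * y * tSz hF 0 b = y⁻¹ := by
  obtain ⟨x, hx⟩ := (thSucc_bijective hF).2 b
  have hx0 : x ≠ 0 := by rintro rfl; exact hb (by rw [← hx]; simp)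
  set d := dSz hF (Units.mk0 x hx0) with hd
  have hz : tSz hF 0 b = d * tSz hF 0 1 * d⁻¹ := by
    rw [eq_mul_inv_iff_mul_eq, hd, dSz_conj_tSz]
    simp only [Units.val_mk0, mul_zero, mul_one]
    rw [show th m x * x = b from hx]
  refine ⟨d * yFive hF * d⁻¹, fun h => yFive_ne_one hF (conj_eq_one_iff.1 h), ?_, ?_⟩
  · rw [show orderOf (d * yFive hF * d⁻¹) = orderOf (yFive hF) from
      ((SemiconjBy.conj_mk d (yFive hF)).orderOf_eq).symm]
    exact yFive_odd hF
  · have h1 : (tSz hF (0 : F) 1)⁻¹ = tSz hF 0 1 := inv_eq_of_mul_eq_one_right (tSz_zero_sq hF 1)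
    have h2 : tSz hF 0 1 * yFive hF * tSz hF 0 1 = (yFive hF)⁻¹ := by
      rw [yFive, mul_inv_rev, wSz_inv, h1, ← mul_assoc, tSz_zero_sq hF 1, one_mul]
    rw [hz, mul_inv_rev, mul_inv_rev, inv_inv, ← mul_assoc d (yFive hF)⁻¹, ← h2]
    group

end Cfsg.Agent.SzModule
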