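/-
Stable subgroups and sections of a module of a group.

* `Stable`, `Irreducible`, `subAct`, `quotAct`
* `fpf_sub`, `fpf_quot` : fixed-point-freeness of elements of odd order passes to sections
* `exists_min`, `exists_max`, `irreducible_sub`, `irreducible_quot`
* `exists_fixed`, `exists_invariant` : a 2-group fixes a vector and an index-two subgroup
* `exists_eq_smul_add` : over an inverted element of odd order, `ker (z + 1) = im (z + 1)`
-/
import Cfsg.Agent.EqLemmas

set_option autoImplicit false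
set_option linter.unusedSectionVars false
set_option linter.style.haveILetI false

namespace Cfsg.Agent.SzModule

variable (G : Type*) {V : Type*} [Group G] [AddCommGroup V] [DistribMulAction G V]

/-- A subgroup of a module mapped into itself. -/
def Stable (N : AddSubgroup V) : Prop := ∀ (g : G) (v : V), v ∈ N → g • v ∈ N

/-- No stable subgroup besides the trivial two. -/
def Irreducible (G V : Type*) [Group G] [AddCommGroup V] [DistribMulAction G V] : Prop :=
  ∀ N : AddSubgroup V, Stable G N → N = ⊥ ∨ N = ⊤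

/-- Elements of odd order fix only zero. -/
def FPF (G V : Type*) [Group G] [AddCommGroup V] [DistribMulAction G V] : Prop :=
  ∀ g : G, g ≠ 1 → Odd (orderOf g) → ∀ v : V, g • v = v → v = 0

variable {G} {N : AddSubgroup V}

/-- The action on a stable subgroup. -/
abbrev subAct (h : Stable G N) : DistribMulAction G N where
  smul g v := ⟨g • (v : V), h g v v.2⟩
  one_smul v := Subtype.ext (one_smul G (v : V))
  mul_smul g g' v := Subtype.ext (mul_smul g g' (v : V))
  smul_zero g := Subtype.ext (smul_zero g)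
  smul_add g v v' := Subtype.ext (smul_add g (v : V) v')

/-- The action on the quotient by a stable subgroup. -/
abbrev quotAct (h : Stable G N) : DistribMulAction G (V ⧸ N) where
  smul g := QuotientAddGroup.map N N (DistribSMul.toAddMonoidHom V g) fun v hv => h g v hv
  one_smul x := QuotientAddGroup.induction_on x fun v =>
    congrArg (QuotientAddGroup.mk (s := N)) (one_smul G v)
  mul_smul g g' x := QuotientAddGroup.induction_on x fun v =>
    congrArg (QuotientAddGroup.mk (s := N)) (mul_smul g g' v)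
  smul_zero _ := map_zero _
  smul_add _ := map_add _

theorem fpf_sub (hf : FPF G V) (h : Stable G N) : letI := subAct h; FPF G N :=
  fun g hg ho v hv => Subtype.ext (hf g hg ho v (congrArg Subtype.val hv))

theorem fpf_quot (h4 : ∀ v : V, 4 • v = 0) (hf : FPF G V) (h : Stable G N) :
    letI := quotAct h; FPF G (V ⧸ N) := by
  intro g hg ho x hx
  induction x using QuotientAddGroup.induction_on with
  | H v =>
    set n := orderOf g with hn
    have hgv : g • v - v ∈ N := (QuotientAddGroup.eq_iff_sub_mem).1 hx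
    have hi : ∀ i : ℕ, g ^ i • v - v ∈ N := fun i => by
      induction i with
      | zero => simp
      | succ i ih =>
        have h1 : g ^ (i + 1) • v - v = g • (g ^ i • v - v) + (g • v - v) := by
          rw [pow_succ', mul_smul, smul_sub]; abel
        rw [h1]
        exact N.add_mem (h _ _ ih) hgv
    have hS : ∑ i ∈ Finset.range n, g ^ i • v = 0 := by
      refine hf g hg ho _ ?_
      rw [Finset.smul_sum]
      simp_rw [← mul_smul, ← pow_succ']
      have h1 := (Finset.sum_range_succ' (fun i => g ^ i • v) n).symm.trans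
        (Finset.sum_range_succ (fun i => g ^ i • v) n)
      simpa [hn, pow_orderOf_eq_one] using h1
    have hnv : n • v ∈ N := by
      have h1 : ∑ i ∈ Finset.range n, (g ^ i • v - v) = -(n • v) := by
        rw [Finset.sum_sub_distrib, hS, Finset.sum_const, Finset.card_range, zero_sub]
      simpa [h1] using N.sum_mem (fun i (_ : i ∈ Finset.range n) => hi i)
    have hmod : n • v = (n % 4) • v := by
      conv_lhs => rw [← Nat.mod_add_div n 4, add_smul, mul_smul, h4, add_zero]
    rw [hmod] at hnv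
    refine (QuotientAddGroup.eq_zero_iff v).2 ?_
    have h2 : n % 2 = 1 := Nat.odd_iff.1 ho
    rcases (by omega : n % 4 = 1 ∨ n % 4 = 3) with h3 | h3 <;> rw [h3] at hnv
    · simpa using hnv
    · have h5 : v + 3 • v = 0 := by rw [← succ_nsmul']; exact h4 v
      rw [eq_neg_of_add_eq_zero_right h5] at hnv
      simpa using hnv

variable (G V) in
theorem exists_min [Finite V] [Nontrivial V] :
    ∃ M : AddSubgroup V, M ≠ ⊥ ∧ Stable G M ∧ ∀ L ≤ M, Stable G L → L = ⊥ ∨ L = M := by
  obtain ⟨M, -, hM⟩ := Finite.exists_le_minimal (α := AddSubgroup V)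
    (p := fun M => M ≠ ⊥ ∧ Stable G M) (a := ⊤) ⟨top_ne_bot, fun _ _ _ => trivial⟩
  exact ⟨M, hM.prop.1, hM.prop.2, fun L hL hs =>
    or_iff_not_imp_left.2 fun h0 => le_antisymm hL (hM.le_of_le ⟨h0, hs⟩ hL)⟩

theorem irreducible_sub {M : AddSubgroup V} (hs : Stable G M)
    (hmin : ∀ L ≤ M, Stable G L → L = ⊥ ∨ L = M) : letI := subAct hs; Irreducible G M := by
  intro L hL
  rcases hmin (L.map M.subtype) (AddSubgroup.map_subtype_le L) (by
    rintro g _ ⟨v, hv, rfl⟩
    exact ⟨_, hL g v hv, rfl⟩) with h | h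
  · left
    rw [eq_bot_iff]
    intro v hv
    exact AddSubgroup.mem_bot.2 (Subtype.ext (by
      simpa using (h.le ⟨v, hv, rfl⟩ : (v : V) ∈ (⊥ : AddSubgroup V))))
  · right
    rw [eq_top_iff]
    rintro v -
    obtain ⟨w, hw, he⟩ := h.ge v.2
    rwa [← Subtype.ext he]

theorem exists_max [Finite V] {M : AddSubgroup V} (hM : M ≠ ⊤) (hs : Stable G M) :
    ∃ N : AddSubgroup V, M ≤ N ∧ N ≠ ⊤ ∧ ∃ h : Stable G N, letI := quotAct h; Irreducible G (V ⧸ N) := by
  obtain ⟨N, hle, hN⟩ := Finite.exists_le_maximal (α := AddSubgroup V)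
    (p := fun N => N ≠ ⊤ ∧ Stable G N) (a := M) ⟨hM, hs⟩
  refine ⟨N, hle, hN.prop.1, hN.prop.2, fun L hL => ?_⟩
  set L' := L.comap (QuotientAddGroup.mk' N) with hL'
  have hsur : L = L'.map (QuotientAddGroup.mk' N) :=
    (AddSubgroup.map_comap_eq_self_of_surjective (QuotientAddGroup.mk'_surjective N) L).symm
  have hNL : N ≤ L' := fun v hv => by
    have : (QuotientAddGroup.mk' N v) = 0 := (QuotientAddGroup.eq_zero_iff v).2 hv
    simp only [hL', AddSubgroup.mem_comap, this, zero_mem]
  by_cases h : L' = ⊤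
  · right; rw [hsur, h, AddSubgroup.map_top_of_surjective _ (QuotientAddGroup.mk'_surjective N)]
  · left
    have h1 : L' = N := le_antisymm (hN.le_of_ge ⟨h, fun g v hv => hL g _ hv⟩ hNL) hNL
    rw [hsur, h1, QuotientAddGroup.map_mk'_self]

theorem two_dvd_card [Nontrivial V] (h2 : ∀ v : V, v + v = 0) : 2 ∣ Nat.card V := by
  obtain ⟨v, hv⟩ := exists_ne (0 : V)
  have h : addOrderOf v = 2 := addOrderOf_eq_prime (by rw [two_nsmul]; exact h2 v) hv
  exact h ▸ addOrderOf_dvd_natCard v

/-- A 2-group fixes a nonzero vector of a nontrivial elementary module. -/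
theorem exists_fixed [Finite V] [Nontrivial V] (h2 : ∀ v : V, v + v = 0) (U : Subgroup G)
    (hU : IsPGroup 2 U) : ∃ v : V, v ≠ 0 ∧ ∀ u ∈ U, u • v = v := by
  haveI : Fact (Nat.Prime 2) := ⟨Nat.prime_two⟩
  obtain ⟨v, hv, hne⟩ := hU.exists_fixed_point_of_prime_dvd_card_of_fixed_point V (two_dvd_card h2)
    (a := 0) (fun u => smul_zero u)
  exact ⟨v, hne.symm, fun u hu => hv ⟨u, hu⟩⟩

/-- The action on functionals. -/
abbrev dualAct (U : Subgroup G) : MulAction U (V →+ ZMod 2) where
  smul u f := f.comp (DistribSMul.toAddMonoidHom V (u⁻¹ : U))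
  one_smul f := AddMonoidHom.ext fun v => congrArg f (by simp)
  mul_smul u u' f := AddMonoidHom.ext fun v => congrArg f (by simp [mul_smul])

/-- A 2-group leaves a proper subgroup with trivial quotient action. -/
theorem exists_invariant [Finite V] [Nontrivial V] (h2 : ∀ v : V, v + v = 0) (U : Subgroup G)
    (hU : IsPGroup 2 U) : ∃ J : AddSubgroup V, J ≠ ⊤ ∧ ∀ u ∈ U, ∀ v : V, u • v - v ∈ J := by
  haveI : Fact (Nat.Prime 2) := ⟨Nat.prime_two⟩
  letI : Module (ZMod 2) V := AddCommGroup.zmodModule fun v => by rw [two_nsmul]; exact h2 v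
  haveI : Finite (V →+ ZMod 2) := Finite.of_injective _ DFunLike.coe_injective
  obtain ⟨v₀, hv₀⟩ := exists_ne (0 : V)
  obtain ⟨f₀, hf₀⟩ : ∃ f : Module.Dual (ZMod 2) V, f v₀ ≠ 0 := by
    by_contra h
    push Not at h
    exact hv₀ ((Module.forall_dual_apply_eq_zero_iff (ZMod 2) v₀).1 h)
  haveI : Nontrivial (V →+ ZMod 2) :=
    ⟨⟨f₀.toAddMonoidHom, 0, fun h => hf₀ (by simpa using DFunLike.congr_fun h v₀)⟩⟩
  have hd : 2 ∣ Nat.card (V →+ ZMod 2) :=
    two_dvd_card fun f => AddMonoidHom.ext fun v => CharTwo.add_self_eq_zero _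
  letI := dualAct (V := V) U
  obtain ⟨f, hf, hne⟩ := hU.exists_fixed_point_of_prime_dvd_card_of_fixed_point (V →+ ZMod 2) hd
    (a := 0) (fun u => AddMonoidHom.ext fun v => rfl)
  refine ⟨f.ker, fun h => hne (AddMonoidHom.ker_eq_top_iff.1 h).symm, fun u hu v => ?_⟩
  rw [AddMonoidHom.mem_ker, map_sub, sub_eq_zero]
  exact (DFunLike.congr_fun (hf ⟨u, hu⟩) (u • v)).symm.trans (congrArg f (inv_smul_smul u v))

/-- Over an inverted element of odd order, the fixed points of an involution are traces. -/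
theorem exists_eq_smul_add (hf : FPF G V) {z y : G} (hy : y ≠ 1) (ho : Odd (orderOf y))
    (hz : z * y * z = y⁻¹) (hz2 : z * z = 1) {w : V} (hw : z • w = w) :
    ∃ v : V, (∀ S : AddSubgroup V, Stable G S → w ∈ S → v ∈ S) ∧ -w = z • v + v := by
  obtain ⟨j, hj⟩ := ho
  have hzi : z⁻¹ = z := inv_eq_of_mul_eq_one_right hz2
  have hS : ∑ i ∈ Finset.range (2 * j + 1), y ^ i • w = 0 := by
    refine hf y hy ⟨j, hj⟩ _ ?_
    rw [Finset.smul_sum]
    simp_rw [← mul_smul, ← pow_succ']
    have h1 := (Finset.sum_range_succ' (fun i => y ^ i • w) (2 * j + 1)).symm.trans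
      (Finset.sum_range_succ (fun i => y ^ i • w) (2 * j + 1))
    simpa [← hj, pow_orderOf_eq_one] using h1
  have hzp : ∀ i : ℕ, i ≤ 2 * j + 1 → z • y ^ i • w = y ^ (2 * j + 1 - i) • w := fun i hi => by
    have h1 : z * y ^ i * z = (y ^ i)⁻¹ := by
      rw [← inv_pow, ← hz]
      conv_rhs => rw [show z * y * z = z * y * z⁻¹ by rw [hzi]]
      rw [conj_pow, hzi]
    have h2 : (y ^ i)⁻¹ = y ^ (2 * j + 1 - i) := by
      refine inv_eq_of_mul_eq_one_right ?_
      rw [← pow_add, show i + (2 * j + 1 - i) = 2 * j + 1 by omega, ← hj, pow_orderOf_eq_one]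
    rw [← h2, ← h1, mul_smul, mul_smul, hw]
  refine ⟨∑ i ∈ Finset.range j, y ^ (i + 1) • w,
    fun S hS hw => S.sum_mem fun i _ => hS _ _ hw, ?_⟩
  rw [Finset.smul_sum]
  rw [Finset.sum_range_succ', pow_zero, one_smul, two_mul, Finset.sum_range_add,
    add_eq_zero_iff_eq_neg] at hS
  rw [← hS, add_comm]
  congr 1
  rw [← Finset.sum_range_reflect]
  refine Finset.sum_congr rfl fun i hi => ?_
  rw [Finset.mem_range] at hi
  rw [hzp _ (by omega)]
  congr 2
  omega

end Cfsg.Agent.SzModule
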