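/-
The only irreducible elementary module of a Suzuki group on which the elements of odd order act
without fixed points is the natural one.

* `decompose`    : the Bruhat decomposition
* `span_natural` : the translates of a line span the natural module
* `exists_equiv` : `V` is the natural module
-/
import Cfsg.Agent.Lib.SzModule.Five
import Cfsg.Agent.Lib.SzModule.Sections

set_option autoImplicit false
set_option linter.unusedSectionVars false
set_option linter.style.haveILetI false

open Cfsg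
open scoped Matrix

namespace Cfsg.Agent.SzModule

open Suzuki

variable {F : Type*} [Field F] [Fintype F] {m : ℕ} (hm : 1 ≤ m) (hF : Fintype.card F = 2 ^ (2 * m + 1))

include hm in
theorem decompose (g : Cfsg.Sz F m) : (∃ a b k, g = tSz hF a b * dSz hF k) ∨
    ∃ a b c e k, g = tSz hF a b * wSz hF * (tSz hF c e * dSz hF k) := by
  have hmem : g • suzukiPointInfinity F ∈ suzukiOvoid F m :=
    (MulAction.mem_stabilizer_set' ovoid_finite).mp g.2 infinity_mem
  rcases mem_ovoid_iff.1 hmem with h | ⟨a, b, h⟩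
  · exact Or.inl (exists_tSz_dSz_of_fix hm hF h)
  · refine Or.inr ⟨a, b, ?_⟩
    have hfix : ((tSz hF a b * wSz hF)⁻¹ * g) • suzukiPointInfinity F = suzukiPointInfinity F := by
      rw [mul_smul, h, inv_smul_eq_iff, mul_smul, wSz_smul_infinity, tSz_smul_zero]
    obtain ⟨c, e, k, hk⟩ := exists_tSz_dSz_of_fix hm hF hfix
    exact ⟨c, e, k, by rw [← hk, mul_inv_cancel_left]⟩

/-- The multiple of a standard vector. -/
def bv (p : Fin 4) : F →+ (Fin 4 → F) := AddMonoidHom.single (fun _ => F) p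

theorem smul_d_bv (k : Fˣ) (p : Fin 4) (t : F) : dSz hF k • bv p t = bv p (dVec m k p * t) := by
  rw [smul_d]
  funext i
  by_cases h : i = p
  · subst h; simp [bv]
  · simp [bv, h]

theorem bv_zero_eq (t : F) : bv 0 t = ![t, 0, 0, 0] := by funext i; fin_cases i <;> simp [bv]

theorem bv_one_eq (t : F) : bv 1 t = ![0, t, 0, 0] := by funext i; fin_cases i <;> simp [bv]

theorem bv_two_eq (t : F) : bv 2 t = ![0, 0, t, 0] := by funext i; fin_cases i <;> simp [bv]

theorem bv_three_eq (t : F) : bv 3 t = ![0, 0, 0, t] := by funext i; fin_cases i <;> simp [bv]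

theorem smul_w_bv (t : F) : wSz hF • bv 0 t = bv 3 t := by
  rw [smul_w]; funext i; fin_cases i <;> simp [bv]

theorem smul_t_bv (a b t : F) : tSz hF a b • bv 0 t = bv 0 t := by
  rw [smul_t]; funext i; fin_cases i <;> simp [bv]

theorem smul_t_bv3 (a b t : F) : tSz hF a b • bv 3 t = ![fz m a b * t, b * t, a * t, t] := by
  rw [smul_t]; funext i; fin_cases i <;> simp [bv]

theorem fixed_bv (t : F) : Fixed hF (bv 0 t : Fin 4 → F) := fun a b => smul_t_bv hF a b t

theorem rel_natural (t : F) : (bv 0 t : Fin 4 → F) =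
    wSz hF • bv 0 t + tSz hF 1 0 • wSz hF • bv 0 t + tSz hF 0 1 • wSz hF • bv 0 t +
      tSz hF 1 1 • wSz hF • bv 0 t := by
  haveI := charTwo hF
  rw [smul_w_bv, smul_t_bv3, smul_t_bv3, smul_t_bv3, bv_zero_eq, bv_three_eq]
  funext i; fin_cases i <;> simp [fz] <;> grind

/-- The translates of a line span. -/
theorem span_natural {S : AddSubgroup (Fin 4 → F)} (h : ∀ a b t : F, tSz hF a b • bv 3 t ∈ S) :
    S = ⊤ := by
  haveI := charTwo hF
  have h3 : ∀ t : F, bv 3 t ∈ S := fun t => by simpa [tSz_zero] using h 0 0 t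
  have h0 : ∀ t : F, bv 0 t ∈ S := fun t => by
    rw [rel_natural hF t, smul_w_bv]
    exact S.add_mem (S.add_mem (S.add_mem (h3 t) (h 1 0 t)) (h 0 1 t)) (h 1 1 t)
  have h1 : ∀ t : F, bv 1 t ∈ S := fun t => by
    have he : bv 1 t = tSz hF 0 1 • bv 3 t - bv 3 t - bv 0 t := by
      rw [smul_t_bv3, bv_zero_eq, bv_three_eq, bv_one_eq]; funext i; fin_cases i <;> simp [fz]
    rw [he]; exact S.sub_mem (S.sub_mem (h 0 1 t) (h3 t)) (h0 t)
  have h2 : ∀ t : F, bv 2 t ∈ S := fun t => by
    have he : bv 2 t = tSz hF 1 0 • bv 3 t - bv 3 t - bv 0 t := by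
      rw [smul_t_bv3, bv_zero_eq, bv_three_eq, bv_two_eq]; funext i; fin_cases i <;> simp [fz]
    rw [he]; exact S.sub_mem (S.sub_mem (h 1 0 t) (h3 t)) (h0 t)
  rw [eq_top_iff]
  intro v _
  have he : v = bv 0 (v 0) + bv 1 (v 1) + bv 2 (v 2) + bv 3 (v 3) := by
    funext i; fin_cases i <;> simp [bv]
  rw [he]
  exact S.add_mem (S.add_mem (S.add_mem (h0 _) (h1 _)) (h2 _)) (h3 _)

include hF in
/-- A stable subgroup with nothing in the last coordinate is zero. -/
theorem eq_zero_of_stable {S : AddSubgroup (Fin 4 → F)} (hs : Stable (Cfsg.Sz F m) S)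
    (h : ∀ v ∈ S, v 3 = 0) {v : Fin 4 → F} (hv : v ∈ S) : v = 0 := by
  have h0 : ∀ u ∈ S, u 0 = 0 := fun u hu => by simpa [smul_w] using h _ (hs (wSz hF) u hu)
  have h2 := h0 _ (hs (tSz hF 0 1) v hv)
  have h1 := h0 _ (hs (tSz hF 1 0) v hv)
  simp [smul_t, h0 v hv, h v hv] at h1 h2
  funext i
  fin_cases i
  · exact h0 v hv
  · simp [h2] at h1; exact h1
  · exact h2
  · exact h v hv

section Module

variable {V : Type*} [AddCommGroup V] [DistribMulAction (Cfsg.Sz F m) V]

include hm in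
theorem fixed_smul_d {x : V} (hx : Fixed hF x) (k : Fˣ) : Fixed hF (dSz hF k • x) := fun a b => by
  have hk : (k : F) ≠ 0 := k.ne_zero
  have h : tSz hF a b * dSz hF k = dSz hF k * tSz hF (a / k) (b / (th m (k : F) * k)) := by
    rw [dSz_conj_tSz, mul_div_cancel₀ _ hk, mul_div_cancel₀ _ (mul_ne_zero (th_ne_zero hk) hk)]
  rw [← mul_smul, h, mul_smul, hx]

include hm in
/-- An equivariant family of fixed vectors is reached from its values on the last line. -/
theorem orbit_mem {W : Type*} [AddCommGroup W] [DistribMulAction (Cfsg.Sz F m) W] (f : F → W)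
    (S : AddSubgroup W) (hf : ∀ t, Fixed hF (f t))
    (hd : ∀ k t, dSz hF k • f t = f (dVec m k 0 * t))
    (hrel : ∀ t, f t = wSz hF • f t + tSz hF 1 0 • wSz hF • f t + tSz hF 0 1 • wSz hF • f t +
      tSz hF 1 1 • wSz hF • f t)
    (hS : ∀ a b t, tSz hF a b • wSz hF • f t ∈ S) (g : Cfsg.Sz F m) (t : F) : g • f t ∈ S := by
  have hf0 : ∀ t, f t ∈ S := fun t => by
    rw [hrel t]
    have h := hS 0 0 t
    rw [tSz_zero, one_smul] at h
    exact S.add_mem (S.add_mem (S.add_mem h (hS 1 0 t)) (hS 0 1 t)) (hS 1 1 t)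
  rcases decompose hm hF g with ⟨a, b, k, rfl⟩ | ⟨a, b, c, e, k, rfl⟩
  · rw [mul_smul, hd, hf]; exact hf0 _
  · rw [mul_smul, mul_smul, mul_smul, hd, hf]; exact hS _ _ _

include hm hF in
theorem exists_equiv [Finite V] [Nontrivial V] (h2 : ∀ v : V, v + v = 0) (hfpf : OddFPF F m V)
    (hirr : Irreducible (Cfsg.Sz F m) V) :
    ∃ Φ : (Fin 4 → F) →+ V, Function.Bijective Φ ∧ ∀ (g : Cfsg.Sz F m) (v : Fin 4 → F), Φ (g • v) = g • Φ v := by
  classical
  haveI := charTwo hF
  obtain ⟨x, hx0, hx⟩ := exists_fixed h2 (uSub hF) (isPGroup_uSub hF)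
  obtain ⟨J, hJ, hJU⟩ := exists_invariant h2 (uSub hF) (isPGroup_uSub hF)
  have hxf : Fixed hF x := fun a b => hx _ (tSz_mem_uSub hF a b)
  have hxd : ∀ k, Fixed hF (dSz hF k • x) := fixed_smul_d hm hF hxf
  set ε := QuotientAddGroup.mk' J with hε
  have hεU : ∀ (a b : F) (v : V), ε (tSz hF a b • v) = ε v := fun a b v =>
    (QuotientAddGroup.eq_iff_sub_mem).2 (hJU _ (tSz_mem_uSub hF a b) v)
  have hεtwo : ∀ c : V ⧸ J, c + c = 0 := fun c => by
    induction c using QuotientAddGroup.induction_on with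
    | H v => rw [← QuotientAddGroup.mk_add, h2]; rfl
  have hwd : ∀ (k : Fˣ) (v : V), wSz hF • dSz hF k • v = dSz hF k⁻¹ • wSz hF • v := fun k v => by
    rw [← mul_smul, wSz_conj_dSz, mul_smul]
  -- the scale
  choose κ hκ' using (aExp_bijective (m := m) hF).2
  have hκ : ∀ s : Fˣ, κ s ^ aExp m = s := hκ'
  have hκu : ∀ (k : Fˣ) (s : Fˣ), k ^ aExp m = s → κ s = k := fun k s h =>
    (aExp_bijective hF).1 ((hκ s).trans h.symm)
  -- the weight function
  let L : F → V ⧸ J := fun s => if h : s = 0 then 0 else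
    ε (wSz hF • dSz hF (κ (Units.mk0 s h)) • x)
  have hL : ∀ k : Fˣ, L ((k ^ aExp m : Fˣ) : F) = ε (wSz hF • dSz hF k • x) := fun k => by
    have h : ((k ^ aExp m : Fˣ) : F) ≠ 0 := Units.ne_zero _
    simp only [L, dif_neg h]
    rw [hκu k (Units.mk0 _ h) (Units.ext rfl)]
  have hwtw : ∀ (k : Fˣ) (a b : F), ¬ (a = 0 ∧ b = 0) →
      ε (wSz hF • tSz hF a b • wSz hF • dSz hF k • x) = L (((k ^ aExp m : Fˣ) : F) * fz m a b) := by
    intro k a b hab
    obtain ⟨j, hj, hj'⟩ := wvw_fixed hm hF (hxd k) hab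
    rw [hj, hεU, ← inv_inv j, ← hwd, ← mul_smul (dSz hF _), dSz_mul, ← hL]
    congr 1
    rw [mul_pow, Units.val_mul, mul_comm]
    congr 1
    rw [inv_pow, Units.val_inv_eq_inv_val, Units.val_pow_eq_pow_val, inv_eq_of_mul_eq_one_right hj']
  have hLadd : ∀ s t : F, L (s + t) = L s + L t := by
    have key : ∀ (k : Fˣ) (y : F), y ≠ 0 → y ≠ 1 →
        L (((k ^ aExp m : Fˣ) : F)) =
          L (((k ^ aExp m : Fˣ) : F) * y) + L (((k ^ aExp m : Fˣ) : F) * (y + 1)) := by
      intro k y hy0 hy1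
      obtain ⟨b, hb⟩ : ∃ b, th m b = y := ⟨th m y ^ (2 ^ (2 * m)), by
        rw [th_pow, th_th hF, ← pow_mul,
          show 2 * 2 ^ (2 * m) = 2 ^ (2 * m + 1) by ring, ← hF, FiniteField.pow_card]⟩
      have hb0 : b ≠ 0 := fun h => hy0 (by rw [← hb, h, th_zero])
      have hb1 : b + 1 ≠ 0 := fun h => hy1 (by
        rw [← hb, show b = 1 from (by grind : b = 1), th_one])
      have hr := congrArg (fun v => ε (wSz hF • tSz hF 0 b • v))
        (rel_two hm hF hfpf h2 (hxd k))
      simp only [hxd k 0 b, smul_add, map_add, ← mul_smul (tSz hF 0 b) (tSz hF _ _), tSz_mul,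
        th_zero, zero_mul, add_zero, zero_add] at hr
      rw [← hL, hwtw k 0 b (fun h => hb0 h.2), hwtw k 1 b (fun h => one_ne_zero h.1),
        hwtw k 0 (b + 1) (fun h => hb1 h.2), hwtw k 1 (b + 1) (fun h => one_ne_zero h.1),
        show fz m 1 (b + 1) = fz m 1 b by simp [fz, th_add]; grind,
        show fz m (0 : F) (b + 1) = y + 1 by simp [fz, th_add, hb],
        show fz m (0 : F) b = y by simp [fz, hb]] at hr
      have h3 := hεtwo (L (((k ^ aExp m : Fˣ) : F) * fz m 1 b))
      rw [hr]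
      generalize L (((k ^ aExp m : Fˣ) : F) * fz m 1 b) = z at h3 ⊢
      generalize L (((k ^ aExp m : Fˣ) : F) * y) = p
      generalize L (((k ^ aExp m : Fˣ) : F) * (y + 1)) = q
      calc p + z + q + z = p + q + (z + z) := by abel
        _ = p + q := by rw [h3, add_zero]
    have hL0 : L 0 = 0 := dif_pos rfl
    intro s t
    by_cases ht : t = 0
    · subst ht; rw [add_zero, hL0, add_zero]
    by_cases hs : s = 0
    · subst hs; rw [zero_add, hL0, zero_add]
    by_cases hst : s = t
    · subst hst; rw [CharTwo.add_self_eq_zero, hL0, hεtwo]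
    have hk : ((κ (Units.mk0 t ht) ^ aExp m : Fˣ) : F) = t := by rw [hκ, Units.val_mk0]
    have h := key (κ (Units.mk0 t ht)) (s / t) (div_ne_zero hs ht)
      (fun h => hst ((div_eq_one_iff_eq ht).1 h))
    rw [hk, mul_add, mul_one, mul_div_cancel₀ _ ht] at h
    rw [h, ← add_assoc, hεtwo, zero_add]
  -- the line
  let η : F → V := fun t => if h : t = 0 then 0 else dSz hF (κ (Units.mk0 t h)) • x
  have hη : ∀ k : Fˣ, η ((k ^ aExp m : Fˣ) : F) = dSz hF k • x := fun k => by
    have h : ((k ^ aExp m : Fˣ) : F) ≠ 0 := Units.ne_zero _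
    simp only [η, dif_neg h]
    rw [hκu k (Units.mk0 _ h) (Units.ext rfl)]
  have hη0 : η 0 = 0 := dif_pos rfl
  have hL0 : L 0 = 0 := dif_pos rfl
  have hηf : ∀ t, Fixed hF (η t) := fun t => by
    by_cases h : t = 0
    · subst h; rw [hη0]; exact fun a b => smul_zero _
    · simp only [η, dif_neg h]; exact hxd _
  have hηL : ∀ t, ε (wSz hF • η t) = L t := fun t => by
    by_cases h : t = 0
    · subst h; rw [hη0, hL0, smul_zero, map_zero]
    · simp only [η, L, dif_neg h]
  have hηd : ∀ (k : Fˣ) (t : F), dSz hF k • η t = η (dVec m k 0 * t) := fun k t => by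
    by_cases h : t = 0
    · subst h; rw [mul_zero, hη0, smul_zero]
    · have h1 : dVec m k 0 * t = (((k * κ (Units.mk0 t h)) ^ aExp m : Fˣ) : F) := by
        rw [mul_pow, hκ, Units.val_mul, Units.val_pow_eq_pow_val, dVec_zero, Units.val_mk0]
      rw [h1, hη, ← dSz_mul, mul_smul]
      simp only [η, dif_neg h]
  have hηadd : ∀ s t : F, η (s + t) = η s + η t := by
    intro s t
    set f : F → V := fun c => η (c * (s + t)) - η (c * s) - η (c * t) with hf
    have hmem : ∀ (g : Cfsg.Sz F m) (c : F), g • f c ∈ J := by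
      refine orbit_mem hm hF f J (fun c a b => ?_) (fun k c => ?_) (fun c => ?_) (fun a b c => ?_)
      · simp only [hf, smul_sub, hηf _ a b]
      · simp only [hf, smul_sub, hηd, mul_assoc]
      · refine rel_two hm hF hfpf h2 (fun a b => ?_)
        simp only [hf, smul_sub, hηf _ a b]
      · refine (QuotientAddGroup.eq_zero_iff _).1 (?_ : ε _ = 0)
        rw [hεU]
        simp only [hf, smul_sub, map_sub, hηL, mul_add, hLadd]
        abel
    have hbot : AddSubgroup.closure (Set.range fun g : Cfsg.Sz F m => g • f 1) = ⊥ := by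
      refine (hirr _ fun g v hv => ?_).resolve_right fun htop => hJ (eq_top_iff.2 ?_)
      · induction hv using AddSubgroup.closure_induction with
        | mem v hv =>
          obtain ⟨g', rfl⟩ := hv
          exact AddSubgroup.subset_closure ⟨g * g', mul_smul g g' (f 1)⟩
        | zero => rw [smul_zero]; exact zero_mem _
        | add u v _ _ hu hv => rw [smul_add]; exact add_mem hu hv
        | neg v _ hv => rw [smul_neg]; exact neg_mem hv
      · rw [← htop, AddSubgroup.closure_le]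
        rintro _ ⟨g, rfl⟩
        exact hmem g 1
    have h0 : (1 : Cfsg.Sz F m) • f 1 ∈ AddSubgroup.closure (Set.range fun g : Cfsg.Sz F m => g • f 1) :=
      AddSubgroup.subset_closure ⟨1, rfl⟩
    rw [hbot, AddSubgroup.mem_bot, one_smul] at h0
    simp only [hf, one_mul, sub_sub, sub_eq_zero] at h0
    exact h0
  -- the graph
  set gen : Set ((Fin 4 → F) × V) := Set.range fun p : F × F × F =>
    (tSz hF p.1 p.2.1 • wSz hF • bv 0 p.2.2, tSz hF p.1 p.2.1 • wSz hF • η p.2.2) with hgendef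
  set N := AddSubgroup.closure gen with hN
  have hgN : ∀ (g : Cfsg.Sz F m) (t : F), g • ((bv 0 t, η t) : (Fin 4 → F) × V) ∈ N := by
    refine orbit_mem hm hF _ N (fun t a b => Prod.ext (fixed_bv hF t a b) (hηf t a b))
      (fun k t => Prod.ext (smul_d_bv hF k 0 t) (hηd k t))
      (fun t => Prod.ext (rel_natural hF t) (rel_two hm hF hfpf h2 (hηf t))) (fun a b t => ?_)
    exact AddSubgroup.subset_closure ⟨(a, b, t), rfl⟩
  have hNs : Stable (Cfsg.Sz F m) N := by
    intro g v hv
    induction hv using AddSubgroup.closure_induction with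
    | mem v hv =>
      obtain ⟨⟨a, b, t⟩, rfl⟩ := hv
      have := hgN (g * (tSz hF a b * wSz hF)) t
      simpa only [mul_smul, Prod.smul_mk] using this
    | zero => rw [smul_zero]; exact zero_mem _
    | add u v _ _ hu hv => rw [smul_add]; exact add_mem hu hv
    | neg v _ hv => rw [smul_neg]; exact neg_mem hv
  have hNL : ∀ p ∈ N, ε p.2 = L (p.1 3) := by
    intro p hp
    induction hp using AddSubgroup.closure_induction with
    | mem p hp =>
      obtain ⟨⟨a, b, t⟩, rfl⟩ := hp
      simp only [hεU, hηL, smul_w_bv, smul_t_bv3]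
      simp
    | zero => simp [hL0]
    | add u v _ _ hu hv => simp only [Prod.snd_add, Prod.fst_add, map_add, Pi.add_apply, hLadd, hu, hv]
    | neg v _ hv =>
      have hneg : ∀ c : V ⧸ J, -c = c := fun c => neg_eq_of_add_eq_zero_left (hεtwo c)
      simp only [Prod.snd_neg, Prod.fst_neg, map_neg, Pi.neg_apply, CharTwo.neg_eq, hv, hneg]
  -- the first projection is a bijection
  have hinr : N.comap (AddMonoidHom.inr (Fin 4 → F) V) = ⊥ := by
    refine (hirr _ fun g v hv => ?_).resolve_right fun htop => hJ (eq_top_iff.2 fun v _ => ?_)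
    · have := hNs g _ hv
      simpa [Prod.smul_def] using this
    · have hv : ((0 : Fin 4 → F), v) ∈ N := htop.ge (AddSubgroup.mem_top v)
      exact (QuotientAddGroup.eq_zero_iff v).1 ((hNL _ hv).trans (by simpa using hL0))
  have hfst : N.map (AddMonoidHom.fst (Fin 4 → F) V) = ⊤ := span_natural hF fun a b t =>
    ⟨_, AddSubgroup.subset_closure ⟨(a, b, t), rfl⟩, by
      show tSz hF a b • wSz hF • bv 0 t = _
      rw [smul_w_bv]⟩
  have hex : ∀ v, ∃ y, (v, y) ∈ N := fun v => by
    obtain ⟨⟨v', y⟩, hy, rfl⟩ := hfst.ge (AddSubgroup.mem_top v)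
    exact ⟨y, hy⟩
  choose φ hφ using hex
  have huniq : ∀ {v y}, (v, y) ∈ N → φ v = y := fun {v y} hy => by
    have h := N.sub_mem (hφ v) hy
    rw [Prod.mk_sub_mk, sub_self] at h
    exact sub_eq_zero.1 ((AddSubgroup.mem_bot).1 (hinr.le h))
  let Φ : (Fin 4 → F) →+ V := AddMonoidHom.mk' φ fun u v => huniq (N.add_mem (hφ u) (hφ v))
  have hΦ : ∀ g v, Φ (g • v) = g • Φ v := fun g v => huniq (hNs g _ (hφ v))
  have hΦη : ∀ t, Φ (bv 0 t) = η t := fun t => huniq (by simpa using hgN 1 t)
  have hηx : η 1 = x := by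
    have h := hη 1
    rwa [one_pow, Units.val_one, dSz_one, one_smul] at h
  refine ⟨Φ, ⟨?_, ?_⟩, hΦ⟩
  · rw [← AddMonoidHom.ker_eq_bot_iff, eq_bot_iff]
    intro v hv
    refine AddSubgroup.mem_bot.2 (eq_zero_of_stable hF (S := Φ.ker)
      (fun g u hu => by rw [AddMonoidHom.mem_ker] at hu ⊢; rw [hΦ, hu, smul_zero]) (fun u hu => ?_) hv)
    by_contra hu3
    -- every weight vanishes
    have hLz : ∀ k : Fˣ, L (dVec m k 3 * u 3) = 0 := fun k => by
      have h := hNL _ (hφ (dSz hF k • u))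
      rw [show φ (dSz hF k • u) = 0 from (hΦ _ u).trans (by
        rw [AddMonoidHom.mem_ker.1 hu, smul_zero]), map_zero, smul_d] at h
      exact h.symm
    have hall : ∀ s : F, L s = 0 := fun s => by
      by_cases hs : s = 0
      · rw [hs, hL0]
      · obtain ⟨k, hk⟩ := (aExp_bijective (m := m) hF).2 (Units.mk0 (u 3 / s) (div_ne_zero hu3 hs))
        have h := hLz k
        rwa [dVec_three, show (k : F) ^ aExp m = u 3 / s by
          rw [← Units.val_pow_eq_pow_val, show k ^ aExp m = _ from hk, Units.val_mk0],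
          inv_div, div_mul_cancel₀ _ hu3] at h
    refine hJ (eq_top_iff.2 fun v _ => (QuotientAddGroup.eq_zero_iff v).1 (?_ : ε v = 0))
    -- the translates generate
    have hr : Φ.range = ⊤ := (hirr _ (by rintro g _ ⟨w, rfl⟩; exact ⟨g • w, hΦ g w⟩)).resolve_left
      fun hb => hx0 (by
        have := hb.le ⟨bv 0 1, (hΦη 1).trans hηx⟩
        exact AddSubgroup.mem_bot.1 this)
    obtain ⟨w, rfl⟩ := hr.ge (AddSubgroup.mem_top v)
    exact (hNL _ (hφ w)).trans (hall _)
  · rw [← AddMonoidHom.range_eq_top]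
    exact (hirr _ (by rintro g _ ⟨w, rfl⟩; exact ⟨g • w, hΦ g w⟩)).resolve_left
      fun hb => hx0 (by
        have := hb.le ⟨bv 0 1, (hΦη 1).trans hηx⟩
        exact AddSubgroup.mem_bot.1 this)

end Module

end Cfsg.Agent.SzModule
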