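/-
There is no nonzero equivariant biadditive map between elementary modules of a Suzuki group on which
the elements of odd order act without fixed points.

* `natural_zero` : on two natural modules
* `bilinear_zero` : in general
-/
import Cfsg.Agent.Lib.SzModule.Natural

set_option autoImplicit false
set_option linter.unusedSectionVars false
set_option linter.style.haveILetI false

open Cfsg
open scoped Matrix

namespace Cfsg.Agent.SzModule

open Suzuki

variable {F : Type*} [Field F] [Fintype F] {m : ℕ} (hm : 1 ≤ m) (hF : Fintype.card F = 2 ^ (2 * m + 1))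

/-- One step of eliminating exponentials. -/
theorem elim_step {G W : Type*} [CommGroup G] [AddCommGroup W] [DistribMulAction G W] {a b c d : G}
    {A B C D : W} (h : ∀ n : ℕ, a ^ n • A + b ^ n • B + c ^ n • C + d ^ n • D = 0) (y : G) :
    ∀ n : ℕ, a ^ n • (a • A - y • A) + b ^ n • (b • B - y • B) + c ^ n • (c • C - y • C) +
      d ^ n • (d • D - y • D) = 0 := by
  intro n
  have e : ∀ (g : G) (X : W), g ^ n • (g • X - y • X) = g ^ (n + 1) • X - y • g ^ n • X :=
    fun g X => by rw [smul_sub, ← mul_smul, ← pow_succ, smul_comm]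
  rw [e, e, e, e]
  have h1 := h (n + 1)
  have h2 : y • (a ^ n • A + b ^ n • B + c ^ n • C + d ^ n • D) = 0 := by rw [h n, smul_zero]
  simp only [smul_add] at h2
  calc _ = (a ^ (n + 1) • A + b ^ (n + 1) • B + c ^ (n + 1) • C + d ^ (n + 1) • D) -
        (y • a ^ n • A + y • b ^ n • B + y • c ^ n • C + y • d ^ n • D) := by abel
    _ = 0 := by rw [h1, h2, sub_zero]

/-- Four exponentials. -/
theorem elim {G W : Type*} [CommGroup G] [AddCommGroup W] [DistribMulAction G W] {a b c d : G}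
    {A B C D : W} (h : ∀ n : ℕ, a ^ n • A + b ^ n • B + c ^ n • C + d ^ n • D = 0)
    (hab : ∀ X : W, a • X - b • X = 0 → X = 0) (hac : ∀ X : W, a • X - c • X = 0 → X = 0)
    (had : ∀ X : W, a • X - d • X = 0 → X = 0) : A = 0 := by
  have h3 := elim_step (elim_step (elim_step h b) c) d 0
  simp only [pow_zero, one_smul, sub_self, smul_zero, add_zero, smul_sub] at h3
  have hb : b • b • B - b • b • B = 0 := sub_self _
  refine hab A (hac _ (had _ ?_))
  simpa [smul_sub] using h3

section Natural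

variable {W : Type*} [AddCommGroup W] [DistribMulAction (Cfsg.Sz F m) W]

include hm hF in
theorem natural_zero (h2 : ∀ w : W, w + w = 0) (hfpf : OddFPF F m W)
    (B : (Fin 4 → F) →+ (Fin 4 → F) →+ W)
    (hB : ∀ (g : Cfsg.Sz F m) u v, B (g • u) (g • v) = g • B u v) : B = 0 := by
  haveI := charTwo hF
  letI : DistribMulAction Fˣ W := DistribMulAction.compHom W (dHom hF)
  have hdd : ∀ (k : Fˣ) (w : W), k • w = dSz hF k • w := fun _ _ => rfl
  set b := fun (p q : Fin 4) (t s : F) => B (bv p t) (bv q s) with hb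
  -- the relation
  have hrel : ∀ t s, b 0 3 t s + b 3 0 t s + b 1 2 t s + b 2 1 t s = 0 := by
    intro t s
    have hfix : Fixed hF (B (bv 0 t) (bv 0 s)) := fun a c => by
      rw [← hB, smul_t_bv, smul_t_bv]
    have h := rel_two hm hF hfpf h2 hfix
    have e : ∀ a c : F, tSz hF a c • wSz hF • B (bv 0 t) (bv 0 s) =
        B (bv 0 (fz m a c * t) + bv 1 (c * t) + bv 2 (a * t) + bv 3 t)
          (bv 0 (fz m a c * s) + bv 1 (c * s) + bv 2 (a * s) + bv 3 s) := fun a c => by
      rw [← hB, ← hB, smul_w_bv, smul_w_bv, smul_t_bv3, smul_t_bv3]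
      congr 2 <;> (funext i; fin_cases i <;> simp [bv_zero_eq, bv_one_eq, bv_two_eq, bv_three_eq])
    rw [e, e, e, show wSz hF • B (bv 0 t) (bv 0 s) = b 3 3 t s by
      rw [← hB, smul_w_bv, smul_w_bv]] at h
    simp only [fz, th_zero, th_one, zero_mul, mul_zero, one_mul, mul_one, zero_add, add_zero, one_pow,
      CharTwo.add_self_eq_zero, map_zero, map_add, AddMonoidHom.add_apply, AddMonoidHom.zero_apply,
      show (0 : F) + 1 = 1 from zero_add 1] at h
    simp only [hb] at h ⊢
    letI : Module (ZMod 2) W := AddCommGroup.zmodModule fun w => by rw [two_nsmul]; exact h2 w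
    have h' := sub_eq_zero.2 h.symm
    rw [← h', ← one_smul (ZMod 2) (_ + _ + _ + _)]
    match_scalars <;> decide
  -- weights
  have hd : ∀ (k : Fˣ) p q t s, k • b p q t s = b p q (dVec m k p * t) (dVec m k q * s) :=
    fun k p q t s => by simp only [hb, hdd, ← hB, smul_d_bv]
  have hinj : ∀ {g h : Fˣ}, g ≠ h → ∀ X : W, g • X - h • X = 0 → X = 0 := by
    intro g h hne X hX
    refine hfpf (dSz hF (g⁻¹ * h)) (fun e => hne ?_) ?_ X ?_
    · exact inv_mul_eq_one.1 (dSz_inj hF (e.trans (dSz_one hF).symm))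
    · refine Odd.of_dvd_nat ?_ (orderOf_map_dvd (dHom hF) (g⁻¹ * h))
      refine Odd.of_dvd_nat ?_ (orderOf_dvd_natCard (g⁻¹ * h))
      rw [Nat.card_units, Nat.card_eq_fintype_card, hF]
      exact Nat.Even.sub_odd (Nat.one_le_two_pow) (Nat.even_pow.2 ⟨even_two, by omega⟩) odd_one
    · rw [← hdd, mul_smul, ← sub_eq_zero.1 hX, inv_smul_smul]
  have hedge : ∀ t s, b 0 3 t s = 0 := by
    obtain ⟨y, hy0, hy1⟩ := exists_ne_zero_one hm hF
    set k := Units.mk0 y hy0 with hk
    set l : Fˣ := k * k ^ (2 ^ (m + 1)) with hl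
    have hl' : ((l : F)) ^ (2 ^ m) = (k : F) ^ aExp m := by
      rw [hl, Units.val_mul, Units.val_pow_eq_pow_val, mul_pow, ← pow_mul,
        show 2 ^ (m + 1) * 2 ^ m = 2 ^ (2 * m + 1) by ring, ← hF, FiniteField.pow_card, aExp,
        pow_succ]
    have hne1 : k ≠ 1 := fun h => hy1 (congrArg Units.val h)
    intro t s
    have heq : ∀ n : ℕ, k ^ n • b 0 3 t s + k⁻¹ ^ n • b 3 0 t s + l ^ n • b 1 2 t s +
        l⁻¹ ^ n • b 2 1 t s = 0 := by
      intro n
      have h := hrel (((k : F) ^ aExp m) ^ n * t) ((((k : F) ^ aExp m)⁻¹) ^ n * s)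
      have d0 : dVec m (k ^ n) 0 = ((k : F) ^ aExp m) ^ n := by
        rw [dVec_zero, Units.val_pow_eq_pow_val, ← pow_mul, ← pow_mul, mul_comm]
      have d3 : dVec m (k ^ n) 3 = (((k : F) ^ aExp m)⁻¹) ^ n := by
        rw [dVec_three, Units.val_pow_eq_pow_val, inv_pow, ← pow_mul, ← pow_mul, mul_comm]
      have d1 : dVec m (l ^ n) 1 = ((k : F) ^ aExp m) ^ n := by
        rw [← hl']; simp [dVec, ← pow_mul, mul_comm]
      have d2 : dVec m (l ^ n) 2 = (((k : F) ^ aExp m)⁻¹) ^ n := by
        rw [← hl']; simp [dVec, ← pow_mul, mul_comm]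
      have i0 : dVec m (k⁻¹ ^ n) 3 = ((k : F) ^ aExp m) ^ n := by
        rw [inv_pow, dVec_three, Units.val_inv_eq_inv_val, Units.val_pow_eq_pow_val, inv_pow, inv_inv,
          ← pow_mul, ← pow_mul, mul_comm]
      have i3 : dVec m (k⁻¹ ^ n) 0 = (((k : F) ^ aExp m)⁻¹) ^ n := by
        rw [inv_pow, dVec_zero, Units.val_inv_eq_inv_val, Units.val_pow_eq_pow_val, inv_pow, inv_pow,
          ← pow_mul, ← pow_mul, mul_comm]
      have i1 : dVec m (l⁻¹ ^ n) 2 = ((k : F) ^ aExp m) ^ n := by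
        rw [← hl']; simp [dVec, ← pow_mul, mul_comm]
      have i2 : dVec m (l⁻¹ ^ n) 1 = (((k : F) ^ aExp m)⁻¹) ^ n := by
        rw [← hl']; simp [dVec, ← pow_mul, mul_comm]
      rwa [hd, hd, hd, hd, d0, d3, d1, d2, i0, i3, i1, i2]
    refine elim heq (hinj ?_) (hinj ?_) (hinj ?_)
    · intro h
      have h2' : (k : F) ^ 2 = 1 := by
        rw [pow_two, ← Units.val_mul]; nth_rewrite 2 [h]; rw [mul_inv_cancel, Units.val_one]
      exact hne1 (Units.ext (by simpa using CharTwo.sq_inj.1 (h2'.trans (one_pow 2).symm)))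
    · intro h
      rw [hl, left_eq_mul, ← Units.val_eq_one, Units.val_pow_eq_pow_val] at h
      exact hy1 (show y = 1 from by
        simpa using congrArg (th m) (show th m y = 1 from h) |> fun e => by
          rw [th_th hF, th_one] at e; exact CharTwo.sq_inj.1 (e.trans (one_pow 2).symm))
    · intro h
      rw [hl, eq_inv_iff_mul_eq_one, ← mul_assoc, ← pow_two, ← Units.val_eq_one, Units.val_mul,
        Units.val_pow_eq_pow_val, Units.val_pow_eq_pow_val] at h
      refine hy1 (show y = 1 from aExp_eq_one hF (m := m) (CharTwo.sq_inj.1 ?_))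
      rw [aExp_sq hF, one_pow, mul_comm]
      exact h
  -- one line kills everything
  have hB0 : ∀ t v, B (bv 0 t) v = 0 := fun t v => by
    have hS : (B (bv 0 t)).ker = ⊤ := span_natural hF fun a c s => by
      rw [AddMonoidHom.mem_ker, ← smul_t_bv hF a c t, hB]
      exact (congrArg _ (hedge t s)).trans (smul_zero _)
    exact hS.ge (AddSubgroup.mem_top v)
  have hS : B.ker = ⊤ := span_natural hF fun a c t => by
    rw [AddMonoidHom.mem_ker]
    refine AddMonoidHom.ext fun v => ?_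
    rw [AddMonoidHom.zero_apply, ← smul_w_bv hF, ← mul_smul,
      ← smul_inv_smul (tSz hF a c * wSz hF) v, hB, hB0, smul_zero]
  exact AddMonoidHom.ker_eq_top_iff.1 hS

end Natural

universe u₁ u₂ u₃

section General

variable {W : Type u₃} [AddCommGroup W] [DistribMulAction (Cfsg.Sz F m) W]

include hm hF in
theorem bilinear_zero_aux (hW : ∀ w : W, w + w = 0) (hfW : OddFPF F m W) :
    ∀ (n : ℕ) {V₁ : Type u₁} [AddCommGroup V₁] [DistribMulAction (Cfsg.Sz F m) V₁] [Finite V₁]
      {V₂ : Type u₂} [AddCommGroup V₂] [DistribMulAction (Cfsg.Sz F m) V₂] [Finite V₂],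
      Nat.card V₁ + Nat.card V₂ ≤ n → (∀ v : V₁, v + v = 0) → OddFPF F m V₁ →
      (∀ v : V₂, v + v = 0) → OddFPF F m V₂ → ∀ B : V₁ →+ V₂ →+ W,
      (∀ (g : Cfsg.Sz F m) u v, B (g • u) (g • v) = g • B u v) → B = 0 := by
  intro n
  induction n using Nat.strong_induction_on with
  | _ n ih =>
  intro V₁ _ _ _ V₂ _ _ _ hn e₁ f₁ e₂ f₂ B hB
  rcases subsingleton_or_nontrivial V₁ with h | h
  · exact AddMonoidHom.ext fun u => by rw [Subsingleton.elim u 0, map_zero, map_zero]
  rcases subsingleton_or_nontrivial V₂ with h' | h'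
  · exact AddMonoidHom.ext fun u => AddMonoidHom.ext fun v => by
      rw [Subsingleton.elim v 0, map_zero, map_zero]
  have hsum : ∀ {a b : ℕ}, a ≤ Nat.card V₁ → b ≤ Nat.card V₂ →
      a < Nat.card V₁ ∨ b < Nat.card V₂ → a + b < n := fun ha hb hab => by omega
  by_cases h1 : Irreducible (Cfsg.Sz F m) V₁
  · by_cases h2 : Irreducible (Cfsg.Sz F m) V₂
    · obtain ⟨Φ₁, hΦ₁, hΦ₁'⟩ := exists_equiv hm hF e₁ f₁ h1
      obtain ⟨Φ₂, hΦ₂, hΦ₂'⟩ := exists_equiv hm hF e₂ f₂ h2
      have hz := natural_zero hm hF hW hfW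
        ((AddMonoidHom.compl₂ B Φ₂).comp Φ₁) (fun g u v => by
          simp only [AddMonoidHom.comp_apply, AddMonoidHom.compl₂_apply, hΦ₁', hΦ₂', hB])
      refine AddMonoidHom.ext fun u => AddMonoidHom.ext fun v => ?_
      obtain ⟨u, rfl⟩ := hΦ₁.2 u
      obtain ⟨v, rfl⟩ := hΦ₂.2 v
      simpa using DFunLike.congr_fun (DFunLike.congr_fun hz u) v
    · simp only [Irreducible, not_forall, not_or, exists_prop] at h2
      obtain ⟨N, hs, hb, ht⟩ := h2
      letI := subAct hs
      letI := quotAct hs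
      have hlt : Nat.card N < Nat.card V₂ :=
        lt_of_le_of_ne (Nat.card_le_card_of_injective N.subtype Subtype.val_injective) fun h => ht ((N.card_eq_iff_eq_top).1 h)
      have hlt' : Nat.card (V₂ ⧸ N) < Nat.card V₂ := by
        rw [N.card_eq_card_quotient_mul_card_addSubgroup]
        exact lt_mul_of_one_lt_right Nat.card_pos ((N.one_lt_card_iff_ne_bot).2 hb)
      have hN := ih _ (hsum le_rfl hlt.le (Or.inr hlt)) (V₁ := V₁) (V₂ := N) le_rfl e₁ f₁
        (fun v => Subtype.ext (e₂ v)) (fpf_sub f₂ hs) (AddMonoidHom.compl₂ B N.subtype)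
        (fun g u v => hB g u v)
      have hker : ∀ u, N ≤ (B u).ker := fun u v hv => by
        have h := DFunLike.congr_fun (DFunLike.congr_fun hN u) (⟨v, hv⟩ : N)
        exact h
      have hQ := ih _ (hsum le_rfl hlt'.le (Or.inr hlt')) (V₁ := V₁) (V₂ := V₂ ⧸ N) le_rfl e₁ f₁
        (fun x => QuotientAddGroup.induction_on x fun v => congrArg (QuotientAddGroup.mk (s := N)) (e₂ v))
        (fpf_quot (fun v => by rw [show 4 = 2 * 2 from rfl, mul_smul, two_nsmul, e₂]) f₂ hs)
        (AddMonoidHom.mk' (fun u => QuotientAddGroup.lift N (B u) (hker u)) fun u u' => by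
          ext v; simp)
        (fun g u x => QuotientAddGroup.induction_on x fun v => hB g u v)
      exact AddMonoidHom.ext fun u => AddMonoidHom.ext fun v =>
        DFunLike.congr_fun (DFunLike.congr_fun hQ u) (QuotientAddGroup.mk v)
  · simp only [Irreducible, not_forall, not_or, exists_prop] at h1
    obtain ⟨N, hs, hb, ht⟩ := h1
    letI := subAct hs
    letI := quotAct hs
    have hlt : Nat.card N < Nat.card V₁ :=
      lt_of_le_of_ne (Nat.card_le_card_of_injective N.subtype Subtype.val_injective) fun h => ht ((N.card_eq_iff_eq_top).1 h)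
    have hlt' : Nat.card (V₁ ⧸ N) < Nat.card V₁ := by
      rw [N.card_eq_card_quotient_mul_card_addSubgroup]
      exact lt_mul_of_one_lt_right Nat.card_pos ((N.one_lt_card_iff_ne_bot).2 hb)
    have hN := ih _ (hsum hlt.le le_rfl (Or.inl hlt)) (V₁ := N) (V₂ := V₂) le_rfl
      (fun v => Subtype.ext (e₁ v)) (fpf_sub f₁ hs) e₂ f₂ (B.comp N.subtype)
      (fun g u v => hB g u v)
    have hker : N ≤ B.ker := fun u hu => by
      have h := DFunLike.congr_fun hN (⟨u, hu⟩ : N)
      exact h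
    have hQ := ih _ (hsum hlt'.le le_rfl (Or.inl hlt')) (V₁ := V₁ ⧸ N) (V₂ := V₂) le_rfl
      (fun x => QuotientAddGroup.induction_on x fun v => congrArg (QuotientAddGroup.mk (s := N)) (e₁ v))
      (fpf_quot (fun v => by rw [show 4 = 2 * 2 from rfl, mul_smul, two_nsmul, e₁]) f₁ hs) e₂ f₂
      (QuotientAddGroup.lift N B hker)
      (fun g x v => QuotientAddGroup.induction_on x fun u => hB g u v)
    exact AddMonoidHom.ext fun u => DFunLike.congr_fun hQ (QuotientAddGroup.mk u)

include hm hF in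
/-- No equivariant pairing. -/
theorem bilinear_zero {V₁ : Type u₁} [AddCommGroup V₁] [DistribMulAction (Cfsg.Sz F m) V₁] [Finite V₁]
    {V₂ : Type u₂} [AddCommGroup V₂] [DistribMulAction (Cfsg.Sz F m) V₂] [Finite V₂]
    (e₁ : ∀ v : V₁, v + v = 0) (f₁ : OddFPF F m V₁) (e₂ : ∀ v : V₂, v + v = 0) (f₂ : OddFPF F m V₂)
    (hW : ∀ w : W, w + w = 0) (hfW : OddFPF F m W) (B : V₁ →+ V₂ →+ W)
    (hB : ∀ (g : Cfsg.Sz F m) u v, B (g • u) (g • v) = g • B u v) : B = 0 :=
  bilinear_zero_aux hm hF hW hfW _ le_rfl e₁ f₁ e₂ f₂ B hB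

end General

end Cfsg.Agent.SzModule
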