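/-
The operator equations in the proof that the centre of a unipotent group of a Suzuki group acts
quadratically.

* `hua`        : an additive map with `f 1 = 0` and `f x⁻¹ = f x / x ^ 2` vanishes
* `operators`  : the solutions of the four equations
-/
import Cfsg.Agent.Lib.Suzuki.Field

set_option autoImplicit false
set_option linter.unusedSectionVars false
set_option linter.style.haveILetI false

namespace Cfsg.Agent.SzModule

open Suzuki

variable {F : Type*} [Field F] [Fintype F] {m : ℕ} (hm : 1 ≤ m) (hF : Fintype.card F = 2 ^ (2 * m + 1))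

include hF in
theorem sq_pow (b : F) : (b ^ 2) ^ (2 ^ (2 * m)) = b := by
  rw [← pow_mul, show 2 * 2 ^ (2 * m) = 2 ^ (2 * m + 1) by ring, ← hF, FiniteField.pow_card]

theorem map_pow_mul {f : F → F} {c : F} (h : ∀ y, f (c * y) = c * f y) (n : ℕ) (y : F) :
    f (c ^ n * y) = c ^ n * f y := by
  induction n generalizing y with
  | zero => simp
  | succ n ih => rw [pow_succ, mul_assoc, ih, h, mul_assoc]

include hF in
theorem map_mul_of_sq {f : F → F} {b : F} (h : ∀ y, f (b ^ 2 * y) = b ^ 2 * f y) (y : F) :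
    f (b * y) = b * f y := by
  have h1 := map_pow_mul h (2 ^ (2 * m)) y
  rwa [sq_pow hF b] at h1

include hF in
/-- The map `E ↦ E b + b E` has no nilpotent part. -/
theorem map_mul_of_defect {f h : F → F} {b : F} (e : ∀ y, f (b * y) + b * f y = h y)
    (hh : ∀ y, h (b * y) = b * h y) (y : F) : f (b * y) = b * f y := by
  haveI := charTwo hF
  refine map_mul_of_sq hF (fun y => ?_) y
  have h1 := e (b * y)
  rw [← mul_assoc, ← pow_two, hh, ← e y] at h1
  have h2 : b * b * f y = b ^ 2 * f y := by rw [pow_two]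
  grind

include hF in
theorem hua (f : F →+ F) (h1 : f 1 = 0) (h : ∀ x : F, x ≠ 0 → f x⁻¹ = f x / x ^ 2) : f = 0 := by
  haveI := charTwo hF
  refine AddMonoidHom.ext fun z => ?_
  rw [AddMonoidHom.zero_apply]
  obtain ⟨x, rfl⟩ : ∃ x : F, x ^ 2 = z :=
    ⟨z ^ (2 ^ (2 * m)), by rw [← pow_mul, ← pow_succ, ← hF, FiniteField.pow_card]⟩
  by_cases hx0 : x = 0
  · simp [hx0]
  by_cases hx1 : x + 1 = 0
  · rw [show x = 1 by grind, one_pow, h1]
  have hu : x ^ 2 + x ≠ 0 := by
    rw [show x ^ 2 + x = x * (x + 1) by ring]; exact mul_ne_zero hx0 hx1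
  have h2 := h _ hu
  rw [show (x ^ 2 + x)⁻¹ = x⁻¹ + (x + 1)⁻¹ by field_simp; grind, map_add, h _ hx0, h _ hx1, map_add,
    map_add, h1, add_zero] at h2
  field_simp at h2
  grind

variable {c₀ : F} {p r s u : F → F →+ F}

include hF in
/-- Linearity. -/
theorem map_mul_of_additive (hp : ∀ a b y, p (a + b) y = p a y + p b y)
    (hc : ∀ b y, p b (b * y) = b * p b y) (b c y : F) : p b (c * y) = c * p b y := by
  haveI := charTwo hF
  refine map_mul_of_sq hF (fun y => ?_) y
  have hS : ∀ y, p b (c * y) + c * p b y = p c (b * y) + b * p c y := fun y => by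
    have h1 := hc (b + c) y
    rw [hp, hp, add_mul, map_add, map_add, hc, hc] at h1
    grind
  have h1 := hS (c * y)
  have h2 := hS y
  have h3 : p c (b * (c * y)) = c * p c (b * y) := by rw [← mul_assoc, mul_comm b c, mul_assoc, hc]
  rw [h3, hc, ← mul_assoc c c y, ← pow_two] at h1
  grind

include hm hF in
/-- The solutions of the four equations. -/
theorem operators (hc₀ : c₀ = 0 ∨ c₀ = 1) (hp : ∀ a b y, p (a + b) y = p a y + p b y)
    (hr : ∀ a b y, r (a + b) y = r a y + r b y) (hs : ∀ a b y, s (a + b) y = s a y + s b y)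
    (hu : ∀ a b y, u (a + b) y = u a y + u b y) (hp1 : ∀ y, p 1 y = c₀ * y) (hu1 : ∀ y, u 1 y = c₀ * y)
    (hr1 : ∀ y, r 1 y = 0) (hs1 : ∀ y, s 1 y = 0) (e1 : ∀ b x, s b (b * x) = b * s b x)
    (e2 : ∀ b x, p b (b * x) + b * p b x + (b + th m b) * s b x = c₀ * (b ^ 2 + b) * x)
    (e3 : ∀ b y, s b ((b + th m b) * y) + u b (b * y) + b * u b y = c₀ * (b ^ 2 + b) * y)
    (e4 : ∀ b y, p b ((b + th m b) * y) + r b (b * y) + b * r b y + (b + th m b) * u b y =
      c₀ * (b + th m b) * y) :
    c₀ = 0 ∧ (∀ b y, s b y = 0) ∧ (∀ b y, p b y = u b y) ∧ (∀ b y, p b y = p b 1 * y) ∧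
      ∀ b y, r b y = r b 1 * y := by
  haveI := charTwo hF
  have hp0 : ∀ y, p 0 y = 0 := fun y => by simpa using hp 0 0 y
  have hu0 : ∀ y, u 0 y = 0 := fun y => by simpa using hu 0 0 y
  have hs0 : ∀ y, s 0 y = 0 := fun y => by simpa using hs 0 0 y
  have hg : ∀ b : F, b ≠ 0 → b ≠ 1 → b + th m b ≠ 0 := fun b h0 h1 h => by
    have hb : th m b = b := by grind
    have h2 := th_th hF b
    rw [hb, hb] at h2
    exact h1 ((mul_eq_left₀ h0).1 (by rw [← pow_two]; exact h2.symm))
  have hpc : ∀ b y, p b (b * y) = b * p b y := fun b y =>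
    map_mul_of_defect hF (h := fun y => c₀ * (b ^ 2 + b) * y + (b + th m b) * s b y)
      (fun y => by have := e2 b y; grind) (fun y => by simp only [e1]; ring) y
  have hsg : ∀ b y, (b + th m b) * s b y = c₀ * (b ^ 2 + b) * y := fun b y => by
    have := e2 b y
    rw [hpc] at this
    grind
  have hsl : ∀ b c y, s b (c * y) = c * s b y := by
    intro b c y
    by_cases h0 : b = 0
    · simp [h0, hs0]
    by_cases h1 : b = 1
    · simp [h1, hs1]
    refine mul_left_cancel₀ (hg b h0 h1) ?_
    rw [hsg, mul_left_comm (b + th m b) c, hsg]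
    ring
  have huc : ∀ b y, u b (b * y) = b * u b y := fun b y => by
    have := e3 b y
    rw [hsl, hsg] at this
    grind
  have hcomm : ∀ {f : F → F →+ F} (b : F), (∀ y, f b (b * y) = b * f b y) →
      ∀ y, f b ((b + th m b) * y) = (b + th m b) * f b y := fun b hf y => by
    rw [add_mul, map_add, hf, th_def, map_pow_mul hf, add_mul]
  have hrc : ∀ b y, r b (b * y) = b * r b y := fun b y =>
    map_mul_of_defect hF (h := fun y => (b + th m b) * (p b y + u b y + c₀ * y))
      (fun y => by have := e4 b y; rw [hcomm b (hpc b)] at this; grind)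
      (fun y => by simp only [hpc, huc]; ring) y
  have hsum : ∀ b, b ≠ 0 → b ≠ 1 → ∀ y, p b y + u b y = c₀ * y := fun b h0 h1 y => by
    have := e4 b y
    rw [hcomm b (hpc b), hrc] at this
    refine mul_left_cancel₀ (hg b h0 h1) ?_
    grind
  have hc0 : c₀ = 0 := by
    refine hc₀.resolve_right fun h => ?_
    obtain ⟨b, hb0, hb1⟩ := exists_ne_zero_one hm hF
    classical
    obtain ⟨c, hc⟩ : ∃ c, c ∉ ({0, 1, b, b + 1} : Finset F) := by
      by_contra hall
      push Not at hall
      have h8 : 8 ≤ Fintype.card F := by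
        rw [hF, show (8 : ℕ) = 2 ^ 3 from rfl]
        exact Nat.pow_le_pow_right (by norm_num) (by omega)
      have := (Finset.card_le_card (fun x _ => hall x : (Finset.univ : Finset F) ⊆ {0, 1, b, b + 1})).trans
        Finset.card_le_four
      rw [Finset.card_univ] at this
      omega
    simp only [Finset.mem_insert, Finset.mem_singleton, not_or] at hc
    obtain ⟨hc0, hc1, hcb, hcb1⟩ := hc
    have k1 := hsum b hb0 hb1 1
    have k2 := hsum c hc0 hc1 1
    have k3 := hsum (b + c) (fun e => hcb (by grind)) (fun e => hcb1 (by grind)) 1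
    rw [hp, hu, h] at k3
    rw [h] at k1 k2
    grind
  refine ⟨hc0, fun b y => ?_, fun b y => ?_, fun b y => ?_, fun b y => ?_⟩
  · by_cases h0 : b = 0
    · simp [h0, hs0]
    by_cases h1 : b = 1
    · simp [h1, hs1]
    refine (mul_eq_zero.1 ?_).resolve_left (hg b h0 h1)
    rw [hsg, hc0, zero_mul, zero_mul]
  · by_cases h0 : b = 0
    · simp [h0, hp0, hu0]
    by_cases h1 : b = 1
    · simp [h1, hp1, hu1]
    have := hsum b h0 h1 y
    rw [hc0, zero_mul] at this
    grind
  · conv_lhs => rw [← mul_one y, map_mul_of_additive hF hp hpc b y 1]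
    ring
  · conv_lhs => rw [← mul_one y, map_mul_of_additive hF hr hrc b y 1]
    ring

end Cfsg.Agent.SzModule
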