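/-
The centre of a unipotent subgroup of a Suzuki group acts quadratically on an elementary module on
which the elements of odd order act without fixed points, and there is no such module of exponent four.

* `dd`             : `v ↦ z b • v - v`
* `core`           : the layer above an irreducible submodule
* `quadratic`      : `dd b (dd c v) = 0` in exponent two
* `double_eq_zero` : no exponent four
-/
import Cfsg.Agent.Lib.SzModule.Operator
import Cfsg.Agent.Lib.SzModule.Natural

set_option autoImplicit false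
set_option linter.unusedSectionVars false
set_option linter.style.haveILetI false

open Cfsg
open scoped Matrix

namespace Cfsg.Agent.SzModule

open Suzuki

variable {F : Type*} [Field F] [Fintype F] {m : ℕ} (hm : 1 ≤ m) (hF : Fintype.card F = 2 ^ (2 * m + 1))

section dd

variable {V : Type*} [AddCommGroup V] [DistribMulAction (Cfsg.Sz F m) V]

/-- The difference operator of a central involution of the unipotent group. -/
def dd (b : F) : V →+ V :=
  AddMonoidHom.mk' (fun v => tSz hF 0 b • v - v) fun u v => by rw [smul_add]; abel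

theorem dd_apply (b : F) (v : V) : dd hF b v = tSz hF 0 b • v - v := rfl

theorem dd_zero (v : V) : dd hF (0 : F) v = 0 := by rw [dd_apply, tSz_zero, one_smul, sub_self]

theorem dd_add (b c : F) (v : V) :
    dd hF (b + c) v = dd hF b v + dd hF c v + dd hF b (dd hF c v) := by
  have h : tSz hF 0 (b + c) = tSz hF 0 b * tSz hF 0 c := by
    rw [tSz_mul, add_zero, th_zero, zero_mul, add_zero]
  simp only [dd_apply, smul_sub, h, mul_smul]
  abel

theorem dd_comm (b c : F) (v : V) : dd hF b (dd hF c v) = dd hF c (dd hF b v) := by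
  have h : tSz hF 0 b * tSz hF 0 c = tSz hF 0 c * tSz hF 0 b := by
    rw [tSz_mul, tSz_mul, th_zero, zero_mul, add_comm b c]
  simp only [dd_apply, smul_sub, ← mul_smul, h]
  abel

theorem dd_self (b : F) (v : V) : dd hF b (dd hF b v) = -(dd hF b v + dd hF b v) := by
  simp only [dd_apply, smul_sub, ← mul_smul, tSz_zero_sq, one_smul]
  abel

theorem dd_map {W : Type*} [AddCommGroup W] [DistribMulAction (Cfsg.Sz F m) W] (f : V →+ W)
    (hf : ∀ (g : Cfsg.Sz F m) v, f (g • v) = g • f v) (b : F) (v : V) :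
    f (dd hF b v) = dd hF b (f v) := by
  rw [dd_apply, dd_apply, map_sub, hf]

theorem dd_conj (k : Fˣ) (b : F) (v : V) :
    dSz hF k • dd hF b v = dd hF (th m (k : F) * k * b) (dSz hF k • v) := by
  simp only [dd_apply, smul_sub, ← mul_smul, dSz_conj_tSz, mul_zero]

theorem dd_natural (b : F) (u : Fin 4 → F) :
    dd hF b u = ![b * u 2 + th m b * u 3, b * u 3, 0, 0] := by
  rw [dd_apply, smul_t]
  funext i
  fin_cases i <;> simp [fz] <;> ring

theorem dd_dd_natural (b c : F) (u : Fin 4 → F) : dd hF b (dd hF c u) = 0 := by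
  rw [dd_natural, dd_natural]
  funext i
  fin_cases i <;> simp

end dd

section core

variable {V : Type*} [AddCommGroup V] [DistribMulAction (Cfsg.Sz F m) V]

set_option maxHeartbeats 1600000 in
include hm hF in
/-- The layer above an irreducible submodule. -/
theorem core (h4 : ∀ v : V, 4 • v = 0) (hfpf : OddFPF F m V) (Φ : (Fin 4 → F) →+ V)
    (hΦi : Function.Injective Φ) (hΦe : ∀ (g : Cfsg.Sz F m) u, Φ (g • u) = g • Φ u)
    (π : V →+ (Fin 4 → F)) (hπs : Function.Surjective π)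
    (hπe : ∀ (g : Cfsg.Sz F m) v, π (g • v) = g • π v) (hπΦ : ∀ u, π (Φ u) = 0)
    {c₀ : F} (hc₀ : c₀ = 0 ∨ c₀ = 1) (hsq : ∀ v, v + v = Φ (c₀ • π v))
    (hK : ∀ b c k, π k = 0 → dd hF b (dd hF c k) = 0)
    (hVM : ∀ b c v, dd hF b (dd hF c v) ∈ Φ.range) :
    c₀ = 0 ∧ ∀ b c (v : V), dd hF b (dd hF c v) = 0 := by
  haveI := charTwo hF
  have hΦd : ∀ b u, Φ (dd hF b u) = dd hF b (Φ u) := fun b u => dd_map hF Φ hΦe b u
  have hπd : ∀ b v, π (dd hF b v) = dd hF b (π v) := fun b v => dd_map hF π hπe b v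
  have hneg : ∀ u, -Φ u = Φ u := fun u => by
    rw [← map_neg]; congr 1; funext i; exact CharTwo.neg_eq _
  choose ψ hψ using hVM
  -- the values
  have h23 : ∀ b c v, ψ b c v 2 = 0 ∧ ψ b c v 3 = 0 := by
    intro b c v
    rcases eq_or_ne b 0 with rfl | hb
    · have h : ψ 0 c v = 0 := hΦi (by rw [hψ, dd_zero, map_zero])
      simp [h]
    have h : dd hF b (ψ b c v) = 0 := hΦi (by
      rw [hΦd, hψ, dd_self, hsq, hπd, hπd, dd_dd_natural, smul_zero, map_zero, neg_zero])
    rw [dd_natural] at h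
    have h3 : b * ψ b c v 3 = 0 := by simpa using congrFun h 1
    have h2 : b * ψ b c v 2 + th m b * ψ b c v 3 = 0 := by simpa using congrFun h 0
    rw [(mul_eq_zero.1 h3).resolve_left hb, mul_zero, add_zero] at h2
    exact ⟨(mul_eq_zero.1 h2).resolve_left hb, (mul_eq_zero.1 h3).resolve_left hb⟩
  have hψadd : ∀ b c v w, ψ b c (v + w) = ψ b c v + ψ b c w := fun b c v w =>
    hΦi (by rw [map_add, hψ, hψ, hψ, map_add, map_add])
  have hlow : ∀ (c : F) (u : Fin 4 → F), u 2 = 0 → u 3 = 0 → dd hF c u = 0 := fun c u e2 e3 => by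
    rw [dd_natural, e2, e3]; funext i; fin_cases i <;> simp
  have htriple : ∀ (b c d : F) (v : V), dd hF b (dd hF c (dd hF d v)) = 0 := fun b c d v => by
    rw [← hψ c d v, ← hΦd, hlow b _ (h23 c d v).1 (h23 c d v).2, map_zero]
  -- dependence on the top only
  have htop : ∀ b c v, π v 2 = 0 → π v 3 = 0 → dd hF b (dd hF c v) = 0 := by
    intro b c v e2 e3
    obtain ⟨v', hv'⟩ := hπs ![0, 0, π v 0 + π v 1, π v 1]
    have hk : π (v - dd hF 1 v') = 0 := by
      rw [map_sub, sub_eq_zero, hπd, hv', dd_natural]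
      funext i
      fin_cases i <;> simp [e2, e3] <;> grind
    have h := hK b c _ hk
    rwa [map_sub, map_sub, htriple, sub_zero] at h
  have hψtop : ∀ b c v w, π v 2 = π w 2 → π v 3 = π w 3 → ψ b c v = ψ b c w := fun b c v w e2 e3 =>
    hΦi (by
      rw [hψ, hψ, ← sub_eq_zero, ← map_sub, ← map_sub]
      refine htop b c _ ?_ ?_ <;> simp [e2, e3])
  choose σ hσ using fun t : F × F => hπs ![0, 0, t.1, t.2]
  have hσ2 : ∀ t, π (σ t) 2 = t.1 := fun t => by rw [hσ]; simp
  have hσ3 : ∀ t, π (σ t) 3 = t.2 := fun t => by rw [hσ]; simp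
  have hσadd : ∀ b c t t', ψ b c (σ (t + t')) = ψ b c (σ t) + ψ b c (σ t') := fun b c t t' => by
    rw [← hψadd]
    refine hψtop b c _ _ ?_ ?_ <;> simp [hσ2, hσ3]
  let p : F → F →+ F := fun b => AddMonoidHom.mk' (fun x => ψ b 1 (σ (x, 0)) 0) fun x y => by
    rw [← Pi.add_apply, ← hσadd, Prod.mk_add_mk, add_zero]
  let s : F → F →+ F := fun b => AddMonoidHom.mk' (fun x => ψ b 1 (σ (x, 0)) 1) fun x y => by
    rw [← Pi.add_apply, ← hσadd, Prod.mk_add_mk, add_zero]
  let r : F → F →+ F := fun b => AddMonoidHom.mk' (fun y => ψ b 1 (σ (y, y)) 0) fun x y => by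
    rw [← Pi.add_apply, ← hσadd, Prod.mk_add_mk]
  let u : F → F →+ F := fun b => AddMonoidHom.mk' (fun y => ψ b 1 (σ (y, y)) 1) fun x y => by
    rw [← Pi.add_apply, ← hσadd, Prod.mk_add_mk]
  have hval : ∀ b v, ψ b 1 v 0 = p b (π v 2 + π v 3) + r b (π v 3) ∧
      ψ b 1 v 1 = s b (π v 2 + π v 3) + u b (π v 3) := by
    intro b v
    have h : ψ b 1 v = ψ b 1 (σ (π v 2 + π v 3, 0)) + ψ b 1 (σ (π v 3, π v 3)) := by
      rw [← hσadd]
      refine hψtop b 1 _ _ ?_ ?_ <;> simp [hσ2, hσ3]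
      grind
    rw [h]
    exact ⟨rfl, rfl⟩
  -- additivity
  have hlin : ∀ a b v, ψ (a + b) 1 v = ψ a 1 v + ψ b 1 v := fun a b v => hΦi (by
    rw [map_add, hψ, hψ, hψ, dd_add, htriple, add_zero])
  -- the value at one
  have hone : ∀ v, ψ 1 1 v = c₀ • dd hF 1 (π v) := fun v => hΦi (by
    rw [hψ, dd_self, hsq, hπd, hneg])
  have hone' : ∀ v, ψ 1 1 v 0 = c₀ * (π v 2 + π v 3) ∧ ψ 1 1 v 1 = c₀ * π v 3 := fun v => by
    simp [hone, dd_natural]
  -- the key equation
  have hkey : ∀ b x y, p b (b * x + (b + th m b) * y) + r b (b * y) +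
        b * (p b x + r b y) + (b + th m b) * (s b x + u b y) +
        c₀ * (b * (b * x + (b + th m b) * y) + (b + th m b) * (b * y)) =
          c₀ * (b * x + (b + th m b) * y) ∧
      s b (b * x + (b + th m b) * y) + u b (b * y) + b * (s b x + u b y) + c₀ * (b * (b * y)) =
        c₀ * (b * y) := by
    intro b x y
    set v := σ (x + y, y) with hv
    set v' := σ (b * x + (b + th m b) * y + b * y, b * y) with hv'
    have hπ1 : dd hF b (π v) = dd hF 1 (π v') := by
      rw [hv, hv', dd_natural, dd_natural]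
      funext i
      fin_cases i <;> simp [hσ2, hσ3] <;> grind
    set k := dd hF b v - dd hF 1 v' with hk
    have hπk : π k = 0 := by rw [hk, map_sub, hπd, hπd, hπ1, sub_self]
    set q := c₀ • dd hF b (π v) with hq
    have h2v : dd hF b v + dd hF b v = Φ q := by rw [hsq, hπd]
    have h2v' : dd hF 1 v' + dd hF 1 v' = Φ q := by rw [hsq, hπd, ← hπ1]
    have hk1 : dd hF 1 k = Φ (ψ b 1 v + q) := by
      rw [hk, map_sub, dd_comm, dd_self, h2v', map_add, hψ, sub_neg_eq_add]
    have hkb : dd hF b k = Φ (q + ψ b 1 v') := by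
      rw [hk, map_sub, dd_self, h2v, map_add, hψ, hneg, sub_eq_add_neg, ← hψ, hneg]
    -- the middle layer is free
    have hMs : Stable (Cfsg.Sz F m) Φ.range := fun g w ⟨e, he⟩ => ⟨g • e, by rw [hΦe, he]⟩
    have hKs : Stable (Cfsg.Sz F m) π.ker := fun g w hw => by
      rw [AddMonoidHom.mem_ker] at hw ⊢; rw [hπe, hw, smul_zero]
    letI := quotAct hMs
    obtain ⟨yy, hy1, hyo, hy⟩ := exists_inverted hm hF (one_ne_zero (α := F))
    obtain ⟨w', hw'S, hw'⟩ := exists_eq_smul_add (fpf_quot h4 hfpf hMs) hy1 hyo hy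
      (tSz_zero_sq hF 1) (w := (QuotientAddGroup.mk k : V ⧸ Φ.range))
      ((QuotientAddGroup.eq_iff_sub_mem).2 ⟨_, hk1.symm⟩)
    obtain ⟨k', hk', rfl⟩ := hw'S (π.ker.map (QuotientAddGroup.mk' Φ.range))
      (fun g w ⟨e, he, hew⟩ => ⟨g • e, hKs g e he, hew ▸ rfl⟩) ⟨k, hπk, rfl⟩
    obtain ⟨η, hη⟩ : k + (tSz hF 0 1 • k' + k') ∈ Φ.range :=
      (QuotientAddGroup.eq_zero_iff _).1 (neg_eq_iff_add_eq_zero.1 hw')
    have hkk : k' + k' = 0 := by rw [hsq, hk', smul_zero, map_zero]
    have hkeq : k = Φ η - dd hF 1 k' := by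
      rw [hη, dd_apply]
      calc k = k + (k' + k') := by rw [hkk, add_zero]
        _ = _ := by abel
    have hD : ∀ c, dd hF c k = Φ (dd hF c η) := fun c => by
      rw [hkeq, map_sub, hΦd, hK c 1 k' hk', sub_zero]
    have E1 : dd hF 1 η = ψ b 1 v + q := hΦi ((hD 1).symm.trans hk1)
    have E2 : dd hF b η = q + ψ b 1 v' := hΦi ((hD b).symm.trans hkb)
    have v2 : π v 2 = x + y := hσ2 _
    have v3 : π v 3 = y := hσ3 _
    have v'2 : π v' 2 = b * x + (b + th m b) * y + b * y := hσ2 _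
    have v'3 : π v' 3 = b * y := hσ3 _
    have a0 := congrFun E1 0
    have a1 := congrFun E1 1
    have b0 := congrFun E2 0
    have b1 := congrFun E2 1
    simp only [hq, dd_natural, Pi.add_apply, Pi.smul_apply, smul_eq_mul, hval, v2, v3, v'2, v'3,
      Matrix.cons_val_zero, Matrix.cons_val_one, one_mul, th_one] at a0 a1 b0 b1
    rw [show x + y + y = x by grind] at a0 a1
    rw [show b * x + (b + th m b) * y + b * y + b * y = b * x + (b + th m b) * y by grind] at b0 b1
    constructor <;> grind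
  -- the operators
  obtain ⟨hc0, hs0, hpu, hpl, hrl⟩ := operators hm hF (p := p) (r := r) (s := s) (u := u) hc₀
    (fun a b y => by simp only [p, AddMonoidHom.mk'_apply, hlin, Pi.add_apply])
    (fun a b y => by simp only [r, AddMonoidHom.mk'_apply, hlin, Pi.add_apply])
    (fun a b y => by simp only [s, AddMonoidHom.mk'_apply, hlin, Pi.add_apply])
    (fun a b y => by simp only [u, AddMonoidHom.mk'_apply, hlin, Pi.add_apply])
    (fun y => by simp [p, hone', hσ2, hσ3])
    (fun y => by simp [u, hone', hσ3])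
    (fun y => by simp [r, hone', hσ2, hσ3, CharTwo.add_self_eq_zero])
    (fun y => by simp [s, hone', hσ3])
    (fun b x => by
      have h := (hkey b x 0).2
      simp only [mul_zero, add_zero, map_zero] at h
      grind)
    (fun b x => by
      have h := (hkey b x 0).1
      simp only [mul_zero, add_zero, map_zero] at h
      grind)
    (fun b y => by
      have h := (hkey b 0 y).2
      simp only [mul_zero, zero_add, map_zero] at h
      grind)
    (fun b y => by
      have h := (hkey b 0 y).1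
      simp only [mul_zero, zero_add, map_zero] at h
      grind)
  refine ⟨hc0, ?_⟩
  -- the torus
  set φ := fun b => p b 1 with hφ
  set ρ := fun b => p b 1 + r b 1 with hρ
  have hψv : ∀ b v, ψ b 1 v 0 = φ b * π v 2 + ρ b * π v 3 ∧ ψ b 1 v 1 = φ b * π v 3 := by
    intro b v
    rw [(hval b v).1, (hval b v).2, hs0, ← hpu]
    simp only [hφ, hρ]
    rw [hpl b (π v 2 + π v 3), hrl b (π v 3), hpl b (π v 3)]
    constructor <;> ring
  have htorus : ∀ b : F, b ≠ 0 → ∃ k : Fˣ, th m (k : F) * k * b = 1 ∧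
      φ b⁻¹ = φ b * (th m (k : F) * k) ∧ ρ b⁻¹ = ρ b * (th m (k : F) * k * k) := by
    intro b hb
    obtain ⟨z, hz⟩ := (thSucc_bijective hF).2 b⁻¹
    have hz0 : z ≠ 0 := by rintro rfl; exact inv_ne_zero hb (by rw [← hz]; simp)
    set k := Units.mk0 z hz0
    have hkb : th m (k : F) * k * b = 1 := by
      rw [show th m (k : F) * k = b⁻¹ from hz, inv_mul_cancel₀ hb]
    have heq : ∀ v, ψ b⁻¹ 1 (dSz hF k • v) = dSz hF k • ψ b 1 v := fun v => hΦi (by
      rw [hψ, hΦe, hψ, dd_conj, dd_conj, hkb, mul_one, show th m (k : F) * k = b⁻¹ from hz, dd_comm])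
    have h1 := congrFun (heq (σ (0, 1))) 1
    have h0 := congrFun (heq (σ (0, 1))) 0
    rw [smul_d] at h0 h1
    simp only [(hψv _ _).1, (hψv _ _).2, hπe, hσ2, hσ3, smul_d, mul_zero, mul_one, zero_add] at h0 h1
    have hA : (k : F) ^ (2 ^ m) ≠ 0 := pow_ne_zero _ k.ne_zero
    simp [dVec] at h0 h1
    refine ⟨k, hkb, ?_, ?_⟩ <;> rw [th_eq_sq]
    · field_simp at h1 ⊢; grind
    · field_simp at h0 ⊢; grind
  have hφadd : ∀ a b, φ (a + b) = φ a + φ b := fun a b => by
    simp only [hφ, p, AddMonoidHom.mk'_apply, hlin, Pi.add_apply]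
  have hρadd : ∀ a b, ρ (a + b) = ρ a + ρ b := fun a b => by
    simp only [hρ, p, r, AddMonoidHom.mk'_apply, hlin, Pi.add_apply]; ring
  have hφ1 : φ 1 = 0 := by simp [hφ, p, hone', hc0]
  have hρ1 : ρ 1 = 0 := by simp [hρ, p, r, hone', hc0]
  have hφ0 : ∀ b, φ b = 0 := by
    have h := hua hF (AddMonoidHom.mk' (fun b => φ b ^ 2) fun a b => by rw [hφadd, CharTwo.add_sq])
      (by simp [hφ1]) (fun b hb => by
        obtain ⟨k, hk, e, -⟩ := htorus b hb
        simp only [AddMonoidHom.mk'_apply]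
        rw [e, eq_inv_of_mul_eq_one_left hk]
        field_simp)
    exact fun b => by simpa using DFunLike.congr_fun h b
  have hρ0 : ∀ b, ρ b = 0 := by
    have h := hua hF (AddMonoidHom.mk' (fun b => th m (ρ b)) fun a b => by rw [hρadd, th_add])
      (by simp [hρ1]) (fun b hb => by
        obtain ⟨k, hk, -, e⟩ := htorus b hb
        simp only [AddMonoidHom.mk'_apply]
        rw [e, th_mul, th_mul, th_mul, th_th hF]
        have h : th m (k : F) * k = b⁻¹ := eq_inv_of_mul_eq_one_left hk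
        rw [show (k : F) ^ 2 * th m (k : F) * th m (k : F) = (th m (k : F) * k) ^ 2 by ring, h]
        field_simp)
    exact fun b => th_eq_zero.1 (by simpa using DFunLike.congr_fun h b)
  -- conclusion
  have hbone : ∀ (b : F) (v : V), dd hF b (dd hF 1 v) = 0 := fun b v => by
    rw [← hψ]
    have h : ψ b 1 v = 0 := by
      funext i
      fin_cases i
      · simp [(hψv b v).1, hφ0, hρ0]
      · simp [(hψv b v).2, hφ0]
      · exact (h23 b 1 v).1
      · exact (h23 b 1 v).2
    rw [h, map_zero]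
  intro b c v
  rcases eq_or_ne c 0 with rfl | hc
  · rw [dd_zero, map_zero]
  obtain ⟨z, hz⟩ := (thSucc_bijective hF).2 c
  have hz0 : z ≠ 0 := by rintro rfl; exact hc (by rw [← hz]; simp)
  set k := Units.mk0 z hz0
  have hk : th m (k : F) * k = c := hz
  have h := congrArg (fun w => dSz hF k • w) (hbone (b / c) ((dSz hF k)⁻¹ • v))
  simp only [smul_zero, dd_conj, hk, mul_div_cancel₀ _ hc, mul_one, smul_inv_smul] at h
  exact h

end core

section theorems

universe uV

/-- A coordinate form of an irreducible module, inverse. -/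
theorem exists_inverse {V : Type*} [AddCommGroup V] [DistribMulAction (Cfsg.Sz F m) V]
    {Φ : (Fin 4 → F) →+ V} (hb : Function.Bijective Φ)
    (he : ∀ (g : Cfsg.Sz F m) u, Φ (g • u) = g • Φ u) :
    ∃ π : V →+ (Fin 4 → F), (∀ v, Φ (π v) = v) ∧ (∀ u, π (Φ u) = u) ∧ Function.Surjective π ∧
      ∀ (g : Cfsg.Sz F m) v, π (g • v) = g • π v := by
  let e := AddEquiv.ofBijective Φ hb
  have h1 : ∀ v, Φ (e.symm v) = v := e.apply_symm_apply
  exact ⟨e.symm.toAddMonoidHom, h1, e.symm_apply_apply, e.symm.surjective,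
    fun g v => hb.1 (by rw [he]; exact (h1 _).trans (congrArg _ (h1 v)).symm)⟩

include hm hF in
theorem quadratic_aux : ∀ (n : ℕ) {V : Type uV} [AddCommGroup V] [DistribMulAction (Cfsg.Sz F m) V]
    [Finite V], Nat.card V ≤ n → (∀ v : V, v + v = 0) → OddFPF F m V →
      ∀ (b c : F) (v : V), dd hF b (dd hF c v) = 0 := by
  intro n
  induction n using Nat.strong_induction_on with
  | _ n ih =>
  intro V _ _ _ hn h2 hf b c v
  have h4 : ∀ w : V, 4 • w = 0 := fun w => by rw [show 4 = 2 * 2 from rfl, mul_smul, two_nsmul, h2]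
  rcases subsingleton_or_nontrivial V with h | h
  · exact Subsingleton.elim _ _
  by_cases hirr : Irreducible (Cfsg.Sz F m) V
  · obtain ⟨Φ, hΦ, hΦe⟩ := exists_equiv hm hF h2 hf hirr
    obtain ⟨u, rfl⟩ := hΦ.2 v
    rw [← dd_map hF Φ hΦe, ← dd_map hF Φ hΦe, dd_dd_natural, map_zero]
  obtain ⟨M, hMb, hMs, hMmin⟩ := exists_min (Cfsg.Sz F m) (V := V)
  have hMt : M ≠ ⊤ := fun hM => hirr fun L hL =>
    (hMmin L (hM ▸ le_top) hL).imp id fun h => h.trans hM
  obtain ⟨N, hMN, hNt, hNs, hNirr⟩ := exists_max hMt hMs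
  letI := subAct hNs
  letI := quotAct hNs
  have hlt : Nat.card N < Nat.card V :=
    lt_of_le_of_ne (Nat.card_le_card_of_injective N.subtype Subtype.val_injective)
      fun h => hNt ((N.card_eq_iff_eq_top).1 h)
  have hlt' : Nat.card (V ⧸ M) < Nat.card V := by
    rw [M.card_eq_card_quotient_mul_card_addSubgroup]
    exact lt_mul_of_one_lt_right Nat.card_pos ((M.one_lt_card_iff_ne_bot).2 hMb)
  haveI : Nontrivial M := (M.nontrivial_iff_ne_bot).2 hMb
  haveI : Nontrivial (V ⧸ N) := by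
    refine Finite.one_lt_card_iff_nontrivial.1 ?_
    exact N.one_lt_index_of_ne_top hNt
  letI := subAct hMs
  obtain ⟨Φ₁, hΦ₁, hΦ₁e⟩ := exists_equiv hm hF (V := M) (fun w => Subtype.ext (h2 w))
    (fpf_sub hf hMs) (irreducible_sub hMs hMmin)
  obtain ⟨Φ₂, hΦ₂, hΦ₂e⟩ := exists_equiv hm hF (V := V ⧸ N)
    (fun x => QuotientAddGroup.induction_on x fun w => congrArg (QuotientAddGroup.mk (s := N)) (h2 w))
    (fpf_quot h4 hf hNs) hNirr
  obtain ⟨π₂, hπ1, hπ2, hπs, hπe⟩ := exists_inverse hΦ₂ hΦ₂e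
  refine (core hm hF h4 hf (M.subtype.comp Φ₁) (fun x y h => hΦ₁.1 (Subtype.ext h))
    (fun g u => congrArg Subtype.val (hΦ₁e g u)) (π₂.comp (QuotientAddGroup.mk' N))
    (hπs.comp (QuotientAddGroup.mk'_surjective N)) (fun g w => hπe g (QuotientAddGroup.mk w))
    (fun u => ?_) (c₀ := (0 : F)) (Or.inl rfl) (fun w => by rw [h2, zero_smul, map_zero]) (fun b c k hk => ?_)
    (fun b c w => ?_)).2 b c v
  · show π₂ (QuotientAddGroup.mk' N (Φ₁ u : V)) = 0
    rw [show QuotientAddGroup.mk' N (Φ₁ u : V) = 0 from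
      (QuotientAddGroup.eq_zero_iff _).2 (hMN (Φ₁ u).2), map_zero]
  · have hkN : k ∈ N := by
      have h0 := congrArg Φ₂ hk
      rw [AddMonoidHom.comp_apply, hπ1, map_zero] at h0
      exact (QuotientAddGroup.eq_zero_iff k).1 h0
    exact congrArg Subtype.val (ih _ (lt_of_lt_of_le hlt hn) (V := N) le_rfl
      (fun w => Subtype.ext (h2 w)) (fpf_sub hf hNs) b c ⟨k, hkN⟩)
  · letI := quotAct hMs
    have h0 := ih _ (lt_of_lt_of_le hlt' hn) (V := V ⧸ M) le_rfl
      (fun x => QuotientAddGroup.induction_on x fun w => congrArg (QuotientAddGroup.mk (s := M)) (h2 w))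
      (fpf_quot h4 hf hMs) b c (QuotientAddGroup.mk w)
    obtain ⟨u, hu⟩ := hΦ₁.2 ⟨dd hF b (dd hF c w), (QuotientAddGroup.eq_zero_iff _).1 h0⟩
    exact ⟨u, congrArg Subtype.val hu⟩

include hm hF in
/-- The centre of the unipotent group acts quadratically. -/
theorem quadratic {V : Type uV} [AddCommGroup V] [DistribMulAction (Cfsg.Sz F m) V] [Finite V]
    (h2 : ∀ v : V, v + v = 0) (hf : OddFPF F m V) (b c : F) (v : V) :
    dd hF b (dd hF c v) = 0 :=
  quadratic_aux hm hF _ le_rfl h2 hf b c v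

include hm hF in
/-- An extension of elementary by irreducible is elementary. -/
theorem double_eq_zero {V : Type uV} [AddCommGroup V] [DistribMulAction (Cfsg.Sz F m) V] [Finite V]
    (hf : OddFPF F m V) {M : AddSubgroup V} (hMs : Stable (Cfsg.Sz F m) M)
    (hMmin : ∀ L ≤ M, Stable (Cfsg.Sz F m) L → L = ⊥ ∨ L = M) (hM2 : ∀ v ∈ M, v + v = 0)
    (hVM : ∀ v : V, v + v ∈ M) (v : V) : v + v = 0 := by
  by_contra hv
  have h4 : ∀ w : V, 4 • w = 0 := fun w => by
    rw [show 4 = 2 * 2 from rfl, mul_smul, two_nsmul, two_nsmul]; exact hM2 _ (hVM w)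
  set D : V →+ V := AddMonoidHom.mk' (fun w => w + w) (fun x y => by abel) with hD
  have hDs : Stable (Cfsg.Sz F m) D.range := fun g w ⟨x, hx⟩ => ⟨g • x, by rw [← hx]; simp [hD, smul_add]⟩
  have hrange : D.range = M := (hMmin _ (by rintro _ ⟨x, rfl⟩; exact hVM x) hDs).resolve_left fun h =>
    hv (AddSubgroup.mem_bot.1 (h.le ⟨v, rfl⟩))
  have hMb : M ≠ ⊥ := fun h => hv (AddSubgroup.mem_bot.1 (h.le (hVM v)))
  haveI : Nontrivial M := (M.nontrivial_iff_ne_bot).2 hMb
  letI := subAct hMs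
  letI := quotAct hMs
  obtain ⟨Φ, hΦ, hΦe⟩ := exists_equiv hm hF (V := M) (fun w => Subtype.ext (hM2 w w.2))
    (fpf_sub hf hMs) (irreducible_sub hMs hMmin)
  obtain ⟨π, hπ1, hπ2, hπs, hπe⟩ := exists_inverse hΦ hΦe
  set D' : V →+ M := AddMonoidHom.mk' (fun w => ⟨w + w, hVM w⟩) (fun x y => Subtype.ext (map_add D x y))
    with hD'
  have hKs : Stable (Cfsg.Sz F m) D'.ker := fun g w hw => by
    have h : w + w = 0 := congrArg Subtype.val hw
    exact Subtype.ext (show g • w + g • w = 0 by rw [← smul_add, h, smul_zero])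
  letI := subAct hKs
  have h := (core hm hF h4 hf (M.subtype.comp Φ) (fun x y h => hΦ.1 (Subtype.ext h))
    (fun g u => congrArg Subtype.val (hΦe g u)) (π.comp D')
    (hπs.comp fun x => by
      obtain ⟨w, hw⟩ := hrange.ge x.2
      exact ⟨w, Subtype.ext hw⟩)
    (fun g w => by
      rw [AddMonoidHom.comp_apply, AddMonoidHom.comp_apply, ← hπe]
      exact congrArg π (Subtype.ext (show g • w + g • w = g • (w + w) by rw [smul_add])))
    (fun u => by
      rw [AddMonoidHom.comp_apply, show D' ((M.subtype.comp Φ) u) = 0 from Subtype.ext (hM2 _ (Φ u).2),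
        map_zero])
    (c₀ := (1 : F)) (Or.inr rfl)
    (fun w => by rw [one_smul]; exact (congrArg Subtype.val (hπ1 (D' w))).symm)
    (fun b c k hk => by
      have h0 : D' k = 0 := by
        have h1 := congrArg Φ hk
        rwa [AddMonoidHom.comp_apply, hπ1, map_zero] at h1
      exact congrArg Subtype.val (quadratic hm hF (V := D'.ker)
        (fun w => Subtype.ext (congrArg (Subtype.val : M → V) (w.2 : D' (w : V) = 0))) (fpf_sub hf hKs) b c ⟨k, h0⟩))
    (fun b c w => by
      have h0 := quadratic hm hF (V := V ⧸ M)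
        (fun x => QuotientAddGroup.induction_on x fun w => (QuotientAddGroup.eq_zero_iff _).2 (hVM w))
        (fpf_quot h4 hf hMs) b c (QuotientAddGroup.mk w)
      obtain ⟨u, hu⟩ := hΦ.2 ⟨dd hF b (dd hF c w), (QuotientAddGroup.eq_zero_iff _).1 h0⟩
      exact ⟨u, congrArg Subtype.val hu⟩)).1
  exact one_ne_zero h

end theorems

end Cfsg.Agent.SzModule
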