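/-
A normal 2-subgroup with quotient a Suzuki group is elementary abelian if no nontrivial element of
odd order centralises one of its nontrivial elements.

* `conjModule`      : an abelian normal subgroup centralised by the kernel, as a module
* `elementary_kernel`
-/
import Cfsg.Agent.Lib.SzModule.Bilinear
import Cfsg.Agent.Lib.SzModule.Quadratic
import Cfsg.Agent.Lib.CIT.Basic

set_option autoImplicit false
set_option linter.unusedSectionVars false
set_option linter.style.haveILetI false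

open Cfsg
open scoped IsMulCommutative

namespace Cfsg.Agent.SzModule

universe u

section Conj

variable {G : Type u} [Group G] {S : Type*} [Group S] (π : G →* S) (hπ : Function.Surjective π)

/-- Conjugation on a normal subgroup centralised by the kernel. -/
noncomputable def conjHom (A : Subgroup G) [A.Normal]
    (hA : ∀ k ∈ π.ker, ∀ a ∈ A, k * a = a * k) : S →* MulAut A :=
  π.liftOfSurjective hπ ⟨MulAut.conjNormal, fun k hk => MulEquiv.ext fun a => Subtype.ext (by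
    rw [MulAut.conjNormal_apply, hA k hk a a.2, mul_inv_cancel_right, MulAut.one_apply])⟩

theorem conjHom_apply (A : Subgroup G) [A.Normal] (hA : ∀ k ∈ π.ker, ∀ a ∈ A, k * a = a * k) (g : G)
    (a : A) : (conjHom π hπ A hA (π g) a : G) = g * a * g⁻¹ := by
  rw [conjHom, MonoidHom.liftOfRightInverse_comp_apply]
  rfl

/-- The module. -/
noncomputable abbrev conjModule (A : Subgroup G) [A.Normal]
    (hA : ∀ k ∈ π.ker, ∀ a ∈ A, k * a = a * k) [IsMulCommutative A] :
    DistribMulAction S (Additive A) where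
  smul s a := Additive.ofMul (conjHom π hπ A hA s a.toMul)
  one_smul a := congrArg Additive.ofMul (by rw [map_one]; rfl)
  mul_smul s t a := congrArg Additive.ofMul (by rw [map_mul]; rfl)
  smul_zero s := congrArg Additive.ofMul (map_one _)
  smul_add s a b := congrArg Additive.ofMul (map_mul _ a.toMul b.toMul)

include hπ in
theorem fpf_conjModule [Finite G] (A : Subgroup G) [A.Normal] (hAk : A ≤ π.ker)
    (hA : ∀ k ∈ π.ker, ∀ a ∈ A, k * a = a * k) [IsMulCommutative A]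
    (hcen : ∀ y : G, Odd (orderOf y) → y ≠ 1 → ∀ q ∈ π.ker, Commute y q → q = 1) :
    letI := conjModule π hπ A hA; FPF S (Additive A) := by
  intro s hs1 hso v hv
  obtain ⟨x, rfl⟩ := hπ s
  obtain ⟨a, r, hr, hx⟩ := Nat.exists_eq_two_pow_mul_odd (orderOf_pos x).ne'
  have hy : orderOf (x ^ 2 ^ a) = r := by
    rw [orderOf_pow, hx, Nat.gcd_eq_right (dvd_mul_right _ _), Nat.mul_div_cancel_left _ (by positivity)]
  have hy1 : x ^ 2 ^ a ≠ 1 := fun e => by
    have h1 : (π x) ^ 2 ^ a = 1 := by rw [← map_pow, e, map_one]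
    have h2 := Nat.Coprime.eq_one_of_dvd ((Nat.coprime_two_right.2 hso).pow_right a) (orderOf_dvd_of_pow_eq_one h1)
    exact hs1 (orderOf_eq_one_iff.1 h2)
  letI := conjModule π hπ A hA
  have hv' : (π x) ^ (2 ^ a) • v = v := by
    clear hx hy hy1
    induction (2 ^ a) with
    | zero => rw [pow_zero, one_smul]
    | succ n ih => rw [pow_succ, mul_smul, hv, ih]
  have h1 : ((conjHom π hπ A hA (π (x ^ 2 ^ a)) v.toMul : A) : G) = (v.toMul : G) := by
    rw [map_pow π]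
    exact congrArg (fun w : Additive A => ((w.toMul : A) : G)) hv'
  rw [conjHom_apply] at h1
  have := hcen _ (hy ▸ hr) hy1 _ (hAk v.toMul.2) (mul_inv_eq_iff_eq_mul.1 h1)
  exact Additive.toMul.injective (Subtype.ext this)

end Conj

variable {F : Type*} [Field F] [Fintype F] {m : ℕ}

open scoped commutatorElement in
/-- The kernel of a map onto a Suzuki group. -/
theorem elementary_kernel (hm : 1 ≤ m) (hF : Fintype.card F = 2 ^ (2 * m + 1)) :
    ∀ (n : ℕ) {G : Type u} [Group G] [Finite G] (π : G →* Cfsg.Sz F m), Nat.card G ≤ n →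
      Function.Surjective π → IsPGroup 2 π.ker →
      (∀ y : G, Odd (orderOf y) → y ≠ 1 → ∀ q ∈ π.ker, Commute y q → q = 1) →
      (∀ a ∈ π.ker, ∀ b ∈ π.ker, a * b = b * a) ∧ ∀ a ∈ π.ker, a * a = 1 := by
  intro n
  induction n using Nat.strong_induction_on with
  | _ n ih =>
  intro G _ _ π hn hπ h2 hcen
  set Q := π.ker with hQdef
  by_cases hQ1 : Q = ⊥
  · rw [hQ1]
    exact ⟨fun a ha b hb => by rw [Subgroup.mem_bot.1 ha, Subgroup.mem_bot.1 hb],
      fun a ha => by rw [Subgroup.mem_bot.1 ha, one_mul]⟩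
  have hQn : Q.Normal := π.normal_ker
  have hZn : (CIT.omegaZ Q).Normal := ⟨fun w hw g =>
    CIT.conj_mem_omegaZ (Subgroup.mem_normalizer_iff.2 fun x =>
      ⟨fun hx => hQn.conj_mem x hx g, fun hx => by
        simpa [mul_assoc] using hQn.conj_mem _ hx g⁻¹⟩) hw⟩
  obtain ⟨M, hMZ, hM⟩ := Finite.exists_le_minimal (α := Subgroup G)
    (p := fun M => M ≠ ⊥ ∧ M.Normal) (a := CIT.omegaZ Q) ⟨CIT.omegaZ_ne_bot h2 hQ1, hZn⟩
  obtain ⟨hMb, hMn⟩ := hM.prop
  have hMQ : M ≤ Q := hMZ.trans (CIT.omegaZ_le Q)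
  have hMc : ∀ k ∈ π.ker, ∀ a ∈ M, k * a = a * k := fun k hk a ha => CIT.omegaZ_comm (hMZ ha) hk
  haveI : IsMulCommutative M := ⟨⟨fun a b => Subtype.ext (hMc a (hMQ a.2) b b.2)⟩⟩
  letI actM : DistribMulAction (Cfsg.Sz F m) (Additive M) := conjModule π hπ M hMc
  have hfM : OddFPF F m (Additive M) := fpf_conjModule π hπ M hMQ hMc hcen
  have hM2 : ∀ v : Additive M, v + v = 0 := fun v =>
    Additive.toMul.injective (Subtype.ext (CIT.omegaZ_sq (hMZ v.toMul.2)))
  -- the quotient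
  set π' := QuotientGroup.lift M π hMQ with hπ'
  have hker : ∀ x : G, (QuotientGroup.mk x : G ⧸ M) ∈ π'.ker ↔ x ∈ Q := fun x => Iff.rfl
  have hlt : Nat.card (G ⧸ M) < n := by
    refine lt_of_lt_of_le ?_ hn
    rw [M.card_eq_card_quotient_mul_card_subgroup]
    exact lt_mul_of_one_lt_right Nat.card_pos ((M.one_lt_card_iff_ne_bot).2 hMb)
  have h2' : IsPGroup 2 π'.ker := by
    rintro ⟨x, hx⟩
    induction x using QuotientGroup.induction_on with
    | H q =>
      obtain ⟨k, hk⟩ := h2 ⟨q, hx⟩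
      refine ⟨k, Subtype.ext ?_⟩
      show (QuotientGroup.mk q : G ⧸ M) ^ 2 ^ k = 1
      rw [← QuotientGroup.mk_pow, show q ^ 2 ^ k = 1 from congrArg Subtype.val hk, QuotientGroup.mk_one]
  have hcen' : ∀ y : G ⧸ M, Odd (orderOf y) → y ≠ 1 → ∀ q ∈ π'.ker, Commute y q → q = 1 := by
    intro yb hyo hy1 qb hq hc
    induction yb using QuotientGroup.induction_on with
    | H x =>
    induction qb using QuotientGroup.induction_on with
    | H q =>
    obtain ⟨a, r, hr, hx⟩ := Nat.exists_eq_two_pow_mul_odd (orderOf_pos x).ne'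
    set y := x ^ 2 ^ a with hy
    have hyr : orderOf y = r := by
      rw [hy, orderOf_pow, hx, Nat.gcd_eq_right (dvd_mul_right _ _),
        Nat.mul_div_cancel_left _ (by positivity)]
    have hyne : y ≠ 1 := fun e => by
      have h1 : (QuotientGroup.mk x : G ⧸ M) ^ 2 ^ a = 1 := by
        rw [← QuotientGroup.mk_pow, ← hy, e, QuotientGroup.mk_one]
      exact hy1 (orderOf_eq_one_iff.1 (Nat.Coprime.eq_one_of_dvd
        ((Nat.coprime_two_right.2 hyo).pow_right a) (orderOf_dvd_of_pow_eq_one h1)))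
    have hqQ : q ∈ Q := hq
    have hcy : y * q * y⁻¹ * q⁻¹ ∈ M := by
      have h := hc.pow_left (2 ^ a)
      rw [← QuotientGroup.mk_pow, ← hy] at h
      refine (QuotientGroup.eq_one_iff _).1 ?_
      rw [QuotientGroup.mk_mul, QuotientGroup.mk_mul, QuotientGroup.mk_mul, h.eq, QuotientGroup.mk_inv,
        QuotientGroup.mk_inv, mul_inv_cancel_right, mul_inv_cancel]
    -- a fixed point in the coset
    have hinj : Function.Injective fun w : M => (⟨(w : G)⁻¹ * (y * w * y⁻¹),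
        M.mul_mem (M.inv_mem w.2) (hMn.conj_mem _ w.2 y)⟩ : M) := by
      intro w w' h
      have h' : (w : G)⁻¹ * (y * w * y⁻¹) = (w' : G)⁻¹ * (y * w' * y⁻¹) := congrArg Subtype.val h
      have hcomm : ((w' : G) * (w : G)⁻¹) * y = y * ((w' : G) * (w : G)⁻¹) := by
        calc ((w' : G) * (w : G)⁻¹) * y = w' * ((w : G)⁻¹ * (y * w * y⁻¹)) * (y * (w : G)⁻¹) := by group
          _ = y * (w' * (w : G)⁻¹) := by rw [h']; group
      have := hcen y (hyr ▸ hr) hyne _ (hMQ (M.mul_mem w'.2 (M.inv_mem w.2))) hcomm.symm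
      exact (Subtype.ext (mul_inv_eq_one.1 this)).symm
    obtain ⟨w, hw⟩ := (Finite.injective_iff_surjective.1 hinj) ⟨_, M.inv_mem hcy⟩
    have hw' : (w : G)⁻¹ * (y * w * y⁻¹) = (y * q * y⁻¹ * q⁻¹)⁻¹ := congrArg Subtype.val hw
    have hfix : y * (q * w) * y⁻¹ = q * w := by
      set c := y * q * y⁻¹ * q⁻¹ with hc
      have hqc : y * q * y⁻¹ = q * c := by rw [hMc q hqQ c hcy, hc]; group
      calc y * (q * w) * y⁻¹ = (y * q * y⁻¹) * (y * w * y⁻¹) := by group
        _ = (q * c) * (w * c⁻¹) := by rw [← hw', mul_inv_cancel_left, hqc]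
        _ = q * w := by
          rw [mul_assoc q, ← mul_assoc c, hMc c (hMQ hcy) w w.2]
          group
    have := hcen y (hyr ▸ hr) hyne _ (Q.mul_mem hqQ (hMQ w.2)) (mul_inv_eq_iff_eq_mul.1 hfix)
    refine (QuotientGroup.eq_one_iff q).2 ?_
    rw [eq_inv_of_mul_eq_one_left this]
    exact M.inv_mem w.2
  obtain ⟨hab', hsq'⟩ := ih _ hlt π' le_rfl (QuotientGroup.lift_surjective_of_surjective M π hπ hMQ) h2' hcen'
  -- the commutator pairing
  haveI : IsMulCommutative π'.ker := ⟨⟨fun a b => Subtype.ext (hab' a a.2 b b.2)⟩⟩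
  letI actQ : DistribMulAction (Cfsg.Sz F m) (Additive π'.ker) :=
    conjModule π' (QuotientGroup.lift_surjective_of_surjective M π hπ hMQ) π'.ker
      (fun k hk a ha => hab' k hk a ha)
  have hfQ : OddFPF F m (Additive π'.ker) :=
    fpf_conjModule π' (QuotientGroup.lift_surjective_of_surjective M π hπ hMQ) π'.ker le_rfl
      (fun k hk a ha => hab' k hk a ha) hcen'
  have hQ2 : ∀ v : Additive π'.ker, v + v = 0 := fun v =>
    Additive.toMul.injective (Subtype.ext (hsq' v.toMul v.toMul.2))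
  have hcm : ∀ a ∈ Q, ∀ b ∈ Q, ⁅a, b⁆ ∈ M := fun a ha b hb => by
    refine (QuotientGroup.eq_one_iff _).1 ?_
    rw [← QuotientGroup.mk'_apply, map_commutatorElement]
    exact commutatorElement_eq_one_iff_mul_comm.2 (hab' _ ha _ hb)
  have hcl : ∀ a ∈ Q, ∀ b ∈ Q, ∀ c ∈ Q, ⁅a * b, c⁆ = ⁅a, c⁆ * ⁅b, c⁆ := fun a ha b hb c hc => by
    calc ⁅a * b, c⁆ = a * ⁅b, c⁆ * a⁻¹ * ⁅a, c⁆ := by simp only [commutatorElement_def]; group
      _ = ⁅a, c⁆ * ⁅b, c⁆ := by
        rw [hMc a ha _ (hcm b hb c hc), mul_inv_cancel_right]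
        exact hMc _ (hMQ (hcm b hb c hc)) _ (hcm a ha c hc)
  have hcr : ∀ a ∈ Q, ∀ b ∈ Q, ∀ c ∈ Q, ⁅a, b * c⁆ = ⁅a, b⁆ * ⁅a, c⁆ := fun a ha b hb c hc => by
    calc ⁅a, b * c⁆ = ⁅a, b⁆ * (b * ⁅a, c⁆ * b⁻¹) := by simp only [commutatorElement_def]; group
      _ = ⁅a, b⁆ * ⁅a, c⁆ := by rw [hMc b hb _ (hcm a ha c hc), mul_inv_cancel_right]
  have hcM : ∀ a ∈ M, ∀ b ∈ Q, ⁅a, b⁆ = 1 ∧ ⁅b, a⁆ = 1 := fun a ha b hb =>
    ⟨commutatorElement_eq_one_iff_mul_comm.2 (hMc b hb a ha).symm,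
      commutatorElement_eq_one_iff_mul_comm.2 (hMc b hb a ha)⟩
  have hrep : ∀ a ∈ Q, ∀ a' : G, (QuotientGroup.mk a' : G ⧸ M) = QuotientGroup.mk a →
      ∃ c ∈ M, a' = a * c := fun a _ a' h =>
    ⟨a⁻¹ * a', QuotientGroup.eq.1 h.symm, (mul_inv_cancel_left a a').symm⟩
  choose σ hσ using fun v : Additive π'.ker => QuotientGroup.mk_surjective (s := M) (v.toMul : G ⧸ M)
  have hσQ : ∀ v, σ v ∈ Q := fun v => (hker _).1 ((hσ v).symm ▸ v.toMul.2)
  have hwd : ∀ a ∈ Q, ∀ b ∈ Q, ∀ a' b', (QuotientGroup.mk a' : G ⧸ M) = QuotientGroup.mk a →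
      (QuotientGroup.mk b' : G ⧸ M) = QuotientGroup.mk b → ⁅a', b'⁆ = ⁅a, b⁆ := by
    intro a ha b hb a' b' h h'
    obtain ⟨c, hc, rfl⟩ := hrep a ha a' h
    obtain ⟨d, hd, rfl⟩ := hrep b hb b' h'
    rw [hcl a ha c (hMQ hc) _ (Q.mul_mem hb (hMQ hd)), (hcM c hc _ (Q.mul_mem hb (hMQ hd))).1, mul_one,
      hcr a ha b hb d (hMQ hd), (hcM d hd a ha).2, mul_one]
  have hσadd : ∀ v w, (QuotientGroup.mk (σ (v + w)) : G ⧸ M) = QuotientGroup.mk (σ v * σ w) :=
    fun v w => by rw [QuotientGroup.mk_mul, hσ, hσ, hσ]; rfl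
  let B : Additive π'.ker →+ Additive π'.ker →+ Additive M :=
    AddMonoidHom.mk' (fun v => AddMonoidHom.mk'
      (fun w => Additive.ofMul (⟨⁅σ v, σ w⁆, hcm _ (hσQ v) _ (hσQ w)⟩ : M))
      fun w w' => Additive.toMul.injective (Subtype.ext (show ⁅σ v, σ (w + w')⁆ = ⁅σ v, σ w⁆ * ⁅σ v, σ w'⁆ by
        rw [← hcr _ (hσQ v) _ (hσQ w) _ (hσQ w')]
        exact hwd _ (hσQ v) _ (Q.mul_mem (hσQ w) (hσQ w')) _ _ rfl (hσadd w w'))))
      fun v v' => AddMonoidHom.ext fun w => Additive.toMul.injective (Subtype.ext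
        (show ⁅σ (v + v'), σ w⁆ = ⁅σ v, σ w⁆ * ⁅σ v', σ w⁆ by
          rw [← hcl _ (hσQ v) _ (hσQ v') _ (hσQ w)]
          exact hwd _ (Q.mul_mem (hσQ v) (hσQ v')) _ (hσQ w) _ _ (hσadd v v') rfl))
  have hB : B = 0 := by
    refine bilinear_zero hm hF hQ2 hfQ hQ2 hfQ hM2 hfM B fun s v w => ?_
    obtain ⟨g, rfl⟩ := hπ s
    refine Additive.toMul.injective (Subtype.ext ?_)
    show ⁅σ (π g • v), σ (π g • w)⁆ = (conjHom π hπ M hMc (π g) ⟨⁅σ v, σ w⁆, _⟩ : G)
    rw [conjHom_apply]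
    have hs : ∀ v : Additive π'.ker,
        (QuotientGroup.mk (σ (π g • v)) : G ⧸ M) = QuotientGroup.mk (g * σ v * g⁻¹) := fun v => by
      rw [hσ, QuotientGroup.mk_mul, QuotientGroup.mk_mul, hσ, QuotientGroup.mk_inv]
      exact conjHom_apply π' (QuotientGroup.lift_surjective_of_surjective M π hπ hMQ) π'.ker
        (fun k hk a ha => hab' k hk a ha) (QuotientGroup.mk g) v.toMul
    rw [← MulAut.conj_apply, map_commutatorElement, MulAut.conj_apply, MulAut.conj_apply]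
    exact hwd _ (hQn.conj_mem _ (hσQ v) g) _ (hQn.conj_mem _ (hσQ w) g) _ _ (hs v) (hs w)
  have hab : ∀ a ∈ Q, ∀ b ∈ Q, a * b = b * a := fun a ha b hb => by
    set v : Additive π'.ker := Additive.ofMul ⟨QuotientGroup.mk a, (hker a).2 ha⟩
    set w : Additive π'.ker := Additive.ofMul ⟨QuotientGroup.mk b, (hker b).2 hb⟩
    have h := congrArg (fun x : Additive M => ((x.toMul : M) : G))
      (DFunLike.congr_fun (DFunLike.congr_fun hB v) w)
    refine commutatorElement_eq_one_iff_mul_comm.1 ?_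
    rw [hwd _ (hσQ v) _ (hσQ w) a b (hσ v).symm (hσ w).symm]
    exact h
  refine ⟨hab, fun a ha => ?_⟩
  -- the exponent
  haveI : Q.Normal := hQn
  haveI : IsMulCommutative Q := ⟨⟨fun a b => Subtype.ext (hab a a.2 b b.2)⟩⟩
  letI actV : DistribMulAction (Cfsg.Sz F m) (Additive Q) :=
    conjModule π hπ Q (fun k hk a ha => hab k hk a ha)
  have hfV : OddFPF F m (Additive Q) :=
    fpf_conjModule π hπ Q le_rfl (fun k hk a ha => hab k hk a ha) hcen
  have h := double_eq_zero hm hF hfV (M := Subgroup.toAddSubgroup (M.subgroupOf Q))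
    (fun s v hv => by
      obtain ⟨g, rfl⟩ := hπ s
      show ((conjHom π hπ Q (fun k hk a ha => hab k hk a ha) (π g) v.toMul : Q) : G) ∈ M
      rw [conjHom_apply]
      exact hMn.conj_mem _ hv g)
    (fun L hL hLs => ?_)
    (fun v hv => Additive.toMul.injective (Subtype.ext (CIT.omegaZ_sq (hMZ hv))))
    (fun v => (QuotientGroup.eq_one_iff _).1 ((QuotientGroup.mk_mul M _ _).trans
      (hsq' _ ((hker _).2 v.toMul.2))))
    (Additive.ofMul ⟨a, ha⟩)
  · exact congrArg (fun x : Additive Q => ((x.toMul : Q) : G)) h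
  · set L' : Subgroup G := (AddSubgroup.toSubgroup' L).map Q.subtype with hL'
    have hL'M : L' ≤ M := by
      rintro _ ⟨x, hx, rfl⟩
      exact hL (show Additive.ofMul x ∈ L from hx)
    have hL'n : L'.Normal := ⟨fun l hl g => by
      obtain ⟨x, hx, rfl⟩ := hl
      exact ⟨_, hLs (π g) (Additive.ofMul x) hx, conjHom_apply π hπ Q (fun k hk a ha => hab k hk a ha) g x⟩⟩
    by_cases hb : L' = ⊥
    · left
      refine eq_bot_iff.2 fun v hv => AddSubgroup.mem_bot.2 (Additive.toMul.injective (Subtype.ext ?_))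
      exact Subgroup.mem_bot.1 (hb.le ⟨v.toMul, hv, rfl⟩)
    · right
      refine le_antisymm hL fun v hv => ?_
      obtain ⟨x, hx, hxe⟩ := hM.le_of_le ⟨hb, hL'n⟩ hL'M (show ((v.toMul : Q) : G) ∈ M from hv)
      have hxv : x = v.toMul := Subtype.ext hxe
      subst hxv
      exact hx

end Cfsg.Agent.SzModule
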